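import Groth.Prelude.Def_LambdaRing
import Groth.Agent.Lead.LamNewton
import Mathlib.RingTheory.PowerSeries.Substitution
import Mathlib.RingTheory.PowerSeries.WellKnown

/-! Elementary properties of λ- and γ-operations on pre-λ-rings. -/

namespace Groth.Agent.LamG

open Finset LambdaRing
open Groth.Agent.Lead.Lam (conv es single es_zero es_cons)

variable {K : Type*} [CommRing K] [LambdaOps K]

lemma lam_zero_eq (k : ℕ) : LambdaOps.lam (k + 1) (0 : K) = 0 := by
  induction k using Nat.strong_induction_on with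
  | _ k ih =>
    have h := LambdaOps.lam_add (k + 1) (0 : K) 0
    rw [add_zero, sum_range_succ, sum_range_succ', Nat.sub_self, LambdaOps.lam_zero, mul_one,
      one_mul, Nat.sub_zero] at h
    rw [Finset.sum_eq_zero (fun i hi => by
      rw [ih i (mem_range.1 hi), zero_mul]), zero_add] at h
    simpa using h

lemma gamma_zero (x : K) : gamma 0 x = 1 := by simp [gamma]

lemma gamma_succ (k : ℕ) (x : K) :
    gamma (k + 1) x = ∑ j ∈ range (k + 1), (k.choose j : K) * LambdaOps.lam (j + 1) x := by
  simp [gamma, sum_range_succ' _ (k + 1)]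

lemma gamma_one (x : K) : gamma 1 x = x := by simp [gamma_succ, LambdaOps.lam_one]

lemma gamma_zero_eq (k : ℕ) : gamma (k + 1) (0 : K) = 0 := by
  simp [gamma_succ, lam_zero_eq]

lemma map_gamma {L F : Type*} [CommRing L] [LambdaOps L] [FunLike F K L] [RingHomClass F K L] (f : F)
    (hf : ∀ i x, f (LambdaOps.lam i x) = LambdaOps.lam i (f x)) (k : ℕ) (x : K) :
    f (gamma k x) = gamma k (f x) := by
  cases k with
  | zero => simp [gamma_zero]
  | succ k => simp [gamma_succ, hf]

/-- the series `t / (1 - t)` -/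
noncomputable def tG (K : Type*) [CommRing K] : PowerSeries K := PowerSeries.X * PowerSeries.mk 1

omit [LambdaOps K] in
lemma hasSubst_tG : PowerSeries.HasSubst (tG K) :=
  PowerSeries.HasSubst.of_constantCoeff_zero' (by simp [tG])

omit [LambdaOps K] in
lemma coeff_tG_pow (j k : ℕ) :
    PowerSeries.coeff k (tG K ^ j)
      = if j = 0 then (if k = 0 then 1 else 0) else if k = 0 then 0 else ((k - 1).choose (j - 1) : K) := by
  cases j with
  | zero => simp [PowerSeries.coeff_one]
  | succ d =>
    rw [tG, mul_pow, PowerSeries.coeff_X_pow_mul', if_neg (Nat.succ_ne_zero d)]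
    rcases Nat.eq_zero_or_pos k with rfl | hk
    · simp
    rw [if_neg hk.ne', PowerSeries.mk_one_pow_eq_mk_choose_add, PowerSeries.coeff_mk]
    split_ifs with h
    · congr 2; all_goals omega
    · rw [Nat.choose_eq_zero_of_lt (by omega)]; simp

/-- the generating series of the γ-operations -/
noncomputable def gammaSeries (x : K) : PowerSeries K := PowerSeries.mk fun k => gamma k x

lemma gammaSeries_eq_subst (x : K) :
    gammaSeries x = PowerSeries.subst (tG K) (lamSeries x) := by
  ext k
  rw [gammaSeries, PowerSeries.coeff_mk, PowerSeries.coeff_subst' hasSubst_tG,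
    finsum_eq_sum_of_support_subset _ (s := range (k + 1))]
  · cases k with
    | zero => simp [gamma_zero, lamSeries, coeff_tG_pow, LambdaOps.lam_zero]
    | succ k =>
      simp only [lamSeries, PowerSeries.coeff_mk, coeff_tG_pow, smul_eq_mul]
      rw [sum_range_succ', gamma_succ]
      simp [mul_comm]
  · intro j hj
    simp only [Function.mem_support, coe_range, Set.mem_Iio] at *
    by_contra h
    refine hj ?_
    rw [coeff_tG_pow, if_neg (by omega)]
    split_ifs <;> simp
    rw [Nat.choose_eq_zero_of_lt (by omega)]; simp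

lemma lamSeries_add (x y : K) : lamSeries (x + y) = lamSeries x * lamSeries y := by
  ext k
  simp [lamSeries, PowerSeries.coeff_mul, Nat.sum_antidiagonal_eq_sum_range_succ_mk, LambdaOps.lam_add]

lemma gammaSeries_add (x y : K) : gammaSeries (x + y) = gammaSeries x * gammaSeries y := by
  rw [gammaSeries_eq_subst, gammaSeries_eq_subst, gammaSeries_eq_subst, lamSeries_add,
    PowerSeries.subst_mul hasSubst_tG]

lemma gamma_add (k : ℕ) (x y : K) :
    gamma k (x + y) = ∑ i ∈ range (k + 1), gamma i x * gamma (k - i) y := by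
  have := congrArg (PowerSeries.coeff k) (gammaSeries_add x y)
  simpa [gammaSeries, PowerSeries.coeff_mul, Nat.sum_antidiagonal_eq_sum_range_succ_mk] using this

lemma gammaSeq_add (x y : K) :
    (fun k => gamma k (x + y)) = conv (fun k => gamma k x) (fun k => gamma k y) :=
  funext fun k => gamma_add k x y

lemma lamSeq_add (x y : K) :
    (fun k => LambdaOps.lam k (x + y)) = conv (fun k => LambdaOps.lam k x) (fun k => LambdaOps.lam k y) :=
  funext fun k => LambdaOps.lam_add k x y

/-- recursion for the γ-operations of a negative -/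
lemma gamma_neg_succ (k : ℕ) (x : K) :
    gamma (k + 1) (-x) = -∑ i ∈ range (k + 1), gamma (i + 1) x * gamma (k - i) (-x) := by
  have h := gamma_add (k + 1) x (-x)
  rw [add_neg_cancel, gamma_zero_eq, sum_range_succ', gamma_zero, one_mul, Nat.sub_zero] at h
  simp only [Nat.add_sub_add_right] at h
  exact eq_neg_of_add_eq_zero_right h.symm

lemma lam_neg_succ (k : ℕ) (x : K) :
    LambdaOps.lam (k + 1) (-x)
      = -∑ i ∈ range (k + 1), LambdaOps.lam (i + 1) x * LambdaOps.lam (k - i) (-x) := by
  have h := LambdaOps.lam_add (k + 1) x (-x)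
  rw [add_neg_cancel, lam_zero_eq, sum_range_succ', LambdaOps.lam_zero, one_mul, Nat.sub_zero] at h
  simp only [Nat.add_sub_add_right] at h
  exact eq_neg_of_add_eq_zero_right h.symm

/-! ### Rings with `λ_t(1) = 1 + t` -/

lemma lam_add_one (h1 : ∀ k, 2 ≤ k → LambdaOps.lam k (1 : K) = 0) (k : ℕ) (x : K) :
    LambdaOps.lam (k + 1) (x + 1) = LambdaOps.lam (k + 1) x + LambdaOps.lam k x := by
  rw [LambdaOps.lam_add, sum_range_succ, sum_range_succ, Finset.sum_eq_zero (fun i hi => by
    rw [h1 (k + 1 - i) (by have := mem_range.1 hi; omega), mul_zero])]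
  simp [LambdaOps.lam_zero, LambdaOps.lam_one, add_comm]

lemma lam_natCast (h1 : ∀ k, 2 ≤ k → LambdaOps.lam k (1 : K) = 0) (m k : ℕ) :
    LambdaOps.lam k (m : K) = (m.choose k : K) := by
  induction m generalizing k with
  | zero => cases k <;> simp [LambdaOps.lam_zero, lam_zero_eq]
  | succ m ih =>
    cases k with
    | zero => simp [LambdaOps.lam_zero]
    | succ k => rw [Nat.cast_succ, lam_add_one h1, ih, ih, Nat.choose_succ_succ']; push_cast; ring

lemma lam_add_natCast (h1 : ∀ k, 2 ≤ k → LambdaOps.lam k (1 : K) = 0) (m k : ℕ) (x : K) :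
    LambdaOps.lam k (x + m) = ∑ i ∈ range (k + 1), LambdaOps.lam i x * (m.choose (k - i) : K) := by
  rw [LambdaOps.lam_add]; simp only [lam_natCast h1]

lemma gamma_eq_lam (h1 : ∀ k, 2 ≤ k → LambdaOps.lam k (1 : K) = 0) (n : ℕ) (x : K) :
    gamma (n + 1) x = LambdaOps.lam (n + 1) (x + n) := by
  rw [lam_add_natCast h1, sum_range_succ', gamma_succ, Nat.sub_zero, Nat.choose_eq_zero_of_lt (Nat.lt_succ_self n)]
  simp only [Nat.cast_zero, mul_zero, add_zero, Nat.add_sub_add_right]
  refine sum_congr rfl fun i hi => ?_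
  rw [Nat.choose_symm (Nat.lt_succ_iff.1 (mem_range.1 hi)), mul_comm]

lemma alt_sum_lam_add_one (h1 : ∀ k, 2 ≤ k → LambdaOps.lam k (1 : K) = 0) (n : ℕ) (z : K) :
    ∑ i ∈ range (n + 1), (-1 : K) ^ i * LambdaOps.lam i (z + 1) = (-1) ^ n * LambdaOps.lam n z := by
  induction n with
  | zero => simp [LambdaOps.lam_zero]
  | succ n ih => rw [sum_range_succ, ih, lam_add_one h1]; ring

/-! ### Line-like elements -/

lemma lamSeq_line {u : K} (hu : ∀ j, 2 ≤ j → LambdaOps.lam j u = 0) :
    (fun k => LambdaOps.lam k u) = single u := by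
  funext k
  rcases k with _ | _ | k
  · simp [single, LambdaOps.lam_zero]
  · simp [single, LambdaOps.lam_one]
  · simp [single, hu]

lemma gamma_line {u : K} (hu : ∀ j, 2 ≤ j → LambdaOps.lam j u = 0) (k : ℕ) :
    gamma (k + 1) u = u := by
  rw [gamma_succ, sum_range_succ', Finset.sum_eq_zero (fun i _ => by rw [hu _ (by omega), mul_zero])]
  simp [LambdaOps.lam_one]

lemma gammaSeq_line_sub_one (h1 : ∀ k, 2 ≤ k → LambdaOps.lam k (1 : K) = 0) {u : K}
    (hu : ∀ j, 2 ≤ j → LambdaOps.lam j u = 0) :
    (fun k => gamma k (u - 1)) = single (u - 1) := by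
  funext k
  induction k using Nat.strong_induction_on with
  | _ k ih =>
    rcases k with _ | _ | k
    · simp [single, gamma_zero]
    · simp [single, gamma_one]
    · have h := gamma_add (k + 2) (u - 1) (1 : K)
      rw [sub_add_cancel, gamma_line hu (k + 1), sum_range_succ, Nat.sub_self, gamma_zero, mul_one,
        sum_range_succ', sum_range_succ', gamma_zero, gamma_one, one_mul,
        show k + 2 - (0 + 1) = k + 1 by omega, gamma_line h1, mul_one, Nat.sub_zero,
        gamma_line h1 (k + 1)] at h
      rw [Finset.sum_eq_zero (fun i hi => by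
        have := ih (i + 1 + 1) (by have := mem_range.1 hi; omega)
        simp only [single] at this
        rw [if_neg (by omega), if_neg (by omega)] at this
        rw [this, zero_mul])] at h
      simp only [single]
      rw [if_neg (by omega), if_neg (by omega)]
      linear_combination -h

lemma gammaSeq_sum_line_sub_one (h1 : ∀ k, 2 ≤ k → LambdaOps.lam k (1 : K) = 0) (s : Multiset K)
    (hs : ∀ u ∈ s, ∀ j, 2 ≤ j → LambdaOps.lam j u = 0) :
    (fun k => gamma k (s.sum - (Multiset.card s : K))) = es (s.map (· - 1)) := by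
  induction s using Multiset.induction_on with
  | empty =>
    funext k
    cases k with
    | zero => simp [gamma_zero, es_zero]
    | succ k => simp [gamma_zero_eq, es, Multiset.esymm, Multiset.powersetCard_zero_right]
  | cons a s ih =>
    rw [Multiset.map_cons, es_cons, ← ih (fun u hu => hs u (Multiset.mem_cons_of_mem hu)),
      ← gammaSeq_line_sub_one h1 (hs a (Multiset.mem_cons_self a s)), ← gammaSeq_add]
    funext k
    rw [Multiset.sum_cons, Multiset.card_cons]
    congr 1
    push_cast; ring

lemma lamSeq_sum_lines (s : Multiset K) (hs : ∀ u ∈ s, ∀ j, 2 ≤ j → LambdaOps.lam j u = 0) :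
    (fun k => LambdaOps.lam k s.sum) = es s := by
  induction s using Multiset.induction_on with
  | empty =>
    funext k
    cases k with
    | zero => simp [LambdaOps.lam_zero, es_zero]
    | succ k => simp [lam_zero_eq, es, Multiset.esymm, Multiset.powersetCard_zero_right]
  | cons a s ih =>
    rw [es_cons, ← ih (fun u hu => hs u (Multiset.mem_cons_of_mem hu)),
      ← lamSeq_line (hs a (Multiset.mem_cons_self a s)), ← lamSeq_add, Multiset.sum_cons]

/-! ### Elements of bounded rank -/

omit [LambdaOps K] in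
lemma coeff_one_sub_X_pow (n k : ℕ) :
    PowerSeries.coeff k ((1 - PowerSeries.X : PowerSeries K) ^ n) = (-1) ^ k * (n.choose k : K) := by
  induction n generalizing k with
  | zero => cases k <;> simp [PowerSeries.coeff_one]
  | succ n ih =>
    rw [pow_succ, mul_sub, mul_one, map_sub]
    cases k with
    | zero => simp [ih]
    | succ k => rw [PowerSeries.coeff_succ_mul_X, ih, ih, Nat.choose_succ_succ']; push_cast; ring

lemma gammaSeries_natCast (h1 : ∀ k, 2 ≤ k → LambdaOps.lam k (1 : K) = 0) (m : ℕ) :
    gammaSeries (m : K) = PowerSeries.mk 1 ^ m := by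
  induction m with
  | zero => ext k; cases k <;> simp [gammaSeries, gamma_zero, gamma_zero_eq, PowerSeries.coeff_one]
  | succ m ih =>
    rw [Nat.cast_succ, gammaSeries_add, ih, pow_succ]
    congr 1
    ext k; cases k <;> simp [gammaSeries, gamma_zero, gamma_line h1]

/-- `γ^k(x - m)` for `x` of rank at most `m` -/
lemma gamma_sub_natCast (h1 : ∀ k, 2 ≤ k → LambdaOps.lam k (1 : K) = 0) {x : K} {m : ℕ}
    (hx : ∀ i, m < i → LambdaOps.lam i x = 0) (k : ℕ) :
    gamma k (x - m) = ∑ i ∈ range (m + 1), if i ≤ k then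
      LambdaOps.lam i x * ((-1) ^ (k - i) * ((m - i).choose (k - i) : K)) else 0 := by
  have hG : (PowerSeries.mk 1 : PowerSeries K) * (1 - PowerSeries.X) = 1 :=
    PowerSeries.mk_one_mul_one_sub_eq_one K
  have hlam : lamSeries x = ∑ i ∈ range (m + 1), PowerSeries.C (LambdaOps.lam i x) * PowerSeries.X ^ i := by
    ext j
    simp only [lamSeries, PowerSeries.coeff_mk, map_sum, PowerSeries.coeff_C_mul, PowerSeries.coeff_X_pow]
    simp only [mul_ite, mul_one, mul_zero, sum_ite_eq]
    split_ifs with h
    · rfl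
    · exact hx j (by simpa using h)
  have key : gammaSeries (x - m) = ∑ i ∈ range (m + 1),
      PowerSeries.C (LambdaOps.lam i x) * (PowerSeries.X ^ i * (1 - PowerSeries.X) ^ (m - i)) := by
    have h := gammaSeries_add (x - m) (m : K)
    rw [sub_add_cancel, gammaSeries_natCast h1] at h
    have h2 : gammaSeries (x - m) = gammaSeries x * (1 - PowerSeries.X) ^ m := by
      rw [h, mul_assoc, ← mul_pow, hG, one_pow, mul_one]
    rw [h2, gammaSeries_eq_subst, hlam, ← PowerSeries.coe_substAlgHom hasSubst_tG, map_sum, sum_mul]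
    refine sum_congr rfl fun i hi => ?_
    rw [map_mul, map_pow,
      show (PowerSeries.substAlgHom (hasSubst_tG (K := K))) (PowerSeries.C (LambdaOps.lam i x))
        = PowerSeries.C (LambdaOps.lam i x) from by
          rw [← PowerSeries.algebraMap_eq]; exact AlgHom.commutes _ _,
      PowerSeries.substAlgHom_X (hasSubst_tG (K := K)),
      show tG K = PowerSeries.X * PowerSeries.mk 1 from rfl, mul_pow]
    obtain ⟨l, hl⟩ := Nat.exists_eq_add_of_le (Nat.lt_succ_iff.1 (mem_range.1 hi))
    have hgi : (PowerSeries.mk 1 : PowerSeries K) ^ i * (1 - PowerSeries.X) ^ i = 1 := by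
      rw [← mul_pow, hG, one_pow]
    rw [hl, pow_add, Nat.add_sub_cancel_left]
    linear_combination (PowerSeries.C (LambdaOps.lam i x) * PowerSeries.X ^ i * (1 - PowerSeries.X) ^ l) * hgi
  have := congrArg (PowerSeries.coeff k) key
  simp only [gammaSeries, PowerSeries.coeff_mk, map_sum, PowerSeries.coeff_C_mul,
    PowerSeries.coeff_X_pow_mul', coeff_one_sub_X_pow] at this
  rw [this]
  refine sum_congr rfl fun i _ => ?_
  split_ifs <;> simp

lemma gamma_sub_natCast_eq_zero (h1 : ∀ k, 2 ≤ k → LambdaOps.lam k (1 : K) = 0) {x : K} {m k : ℕ}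
    (hx : ∀ i, m < i → LambdaOps.lam i x = 0) (hk : m < k) : gamma k (x - m) = 0 := by
  rw [gamma_sub_natCast h1 hx]
  refine Finset.sum_eq_zero fun i hi => ?_
  have := mem_range.1 hi
  rw [if_pos (by omega), Nat.choose_eq_zero_of_lt (by omega : m - i < k - i)]
  simp

/-- `γ^m(x - m) = (-1)^m λ_{-1}(x)` for `x` of rank at most `m` -/
lemma gamma_sub_natCast_top (h1 : ∀ k, 2 ≤ k → LambdaOps.lam k (1 : K) = 0) {x : K} {m : ℕ}
    (hx : ∀ i, m < i → LambdaOps.lam i x = 0) :
    gamma m (x - m) = (-1) ^ m * ∑ i ∈ range (m + 1), (-1 : K) ^ i * LambdaOps.lam i x := by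
  rw [gamma_sub_natCast h1 hx, mul_sum]
  refine sum_congr rfl fun i hi => ?_
  have hi' := Nat.lt_succ_iff.1 (mem_range.1 hi)
  rw [if_pos hi', Nat.choose_self]
  obtain ⟨l, rfl⟩ := Nat.exists_eq_add_of_le hi'
  have e : ((-1 : K) ^ i) * (-1) ^ i = 1 := by rw [← mul_pow, neg_one_mul, neg_neg, one_pow]
  rw [pow_add, Nat.add_sub_cancel_left, Nat.cast_one, mul_one]
  linear_combination -(LambdaOps.lam i x * (-1 : K) ^ l) * e

end Groth.Agent.LamG
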