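import Groth.Agent.LamG.Basic
import Mathlib.Algebra.Group.ForwardDiff

/-! The value of γ^(k+1) from the leading terms of the λ-operations. -/

namespace Groth.Agent.LamG

open Finset LambdaRing

lemma alternating_choose_pow (k : ℕ) :
    ∑ j ∈ range (k + 1), (-1 : ℤ) ^ j * (k.choose j : ℤ) * ((j + 1 : ℕ) : ℤ) ^ k = (-1) ^ k * (k.factorial : ℤ) := by
  have h := fwdDiff_iter_eq_sum_shift (1 : ℤ) (fun r : ℤ => r ^ k) k 1
  rw [fwdDiff_iter_eq_factorial] at h
  simp only [Pi.natCast_apply, nsmul_one, smul_eq_mul] at h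
  rw [h, mul_sum]
  refine sum_congr rfl fun j hj => ?_
  obtain ⟨l, rfl⟩ := Nat.exists_eq_add_of_le (Nat.lt_succ_iff.1 (mem_range.1 hj))
  have e : (-1 : ℤ) ^ l * (-1) ^ l = 1 := by rw [← mul_pow, neg_one_mul, neg_neg, one_pow]
  rw [Nat.add_sub_cancel_left, pow_add (-1 : ℤ)]
  push_cast
  linear_combination (norm := ring_nf)
    -((-1 : ℤ) ^ j * ((j + l).choose j : ℤ) * ((j : ℤ) + 1) ^ (j + l)) * e

/-- γ^(k+1) from the leading terms of the λ-operations -/
lemma gamma_congr_of_lam {A : Type*} [CommRing A] [LambdaOps A] {I : Ideal A} {z : A} (k : ℕ)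
    (h : ∀ n, LambdaOps.lam (n + 1) z - (-1) ^ n * ((n + 1 : ℕ) : A) ^ k * z ∈ I) :
    gamma (k + 1) z - (-1) ^ k * (k.factorial : A) * z ∈ I := by
  have e := congrArg (fun a : ℤ => (a : A)) (alternating_choose_pow k)
  push_cast at e
  have : gamma (k + 1) z - (-1) ^ k * (k.factorial : A) * z
      = ∑ j ∈ range (k + 1), (k.choose j : A)
          * (LambdaOps.lam (j + 1) z - (-1) ^ j * ((j + 1 : ℕ) : A) ^ k * z) := by
    rw [gamma_succ, ← e, sum_mul, ← sum_sub_distrib]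
    refine sum_congr rfl fun j _ => ?_
    push_cast; ring
  rw [this]
  exact Submodule.sum_mem _ fun j _ => Ideal.mul_mem_left _ _ (h j)

end Groth.Agent.LamG
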