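import Groth.Prelude.Def_LambdaSp
import Groth.Agent.LamG.Basic

/-! The γ-filtration and multiplicative families of ideals. -/

namespace Groth.Agent.LamG

open Finset LambdaRing

/-- a decreasing multiplicative family of ideals starting with the unit ideal -/
structure GFil (A : Type*) [CommRing A] where
  G : ℕ → Ideal A
  zero_eq : G 0 = ⊤
  anti : ∀ {m n : ℕ}, m ≤ n → G n ≤ G m
  mul_mem : ∀ {m n : ℕ} {a b : A}, a ∈ G m → b ∈ G n → a * b ∈ G (m + n)

namespace GFil

variable {A : Type*} [CommRing A] (F : GFil A)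

lemma mem_zero (a : A) : a ∈ F.G 0 := by rw [F.zero_eq]; trivial

lemma pow_mem {m : ℕ} {a : A} (ha : a ∈ F.G m) : ∀ k : ℕ, a ^ k ∈ F.G (k * m)
  | 0 => by simpa using F.mem_zero 1
  | k + 1 => by rw [pow_succ, Nat.succ_mul]; exact F.mul_mem (pow_mem ha k) ha

lemma prod_mem {ι : Type*} (s : Finset ι) (f : ι → A) (w : ι → ℕ) (h : ∀ i ∈ s, f i ∈ F.G (w i)) :
    ∏ i ∈ s, f i ∈ F.G (∑ i ∈ s, w i) := by
  classical
  induction s using Finset.induction_on with
  | empty => simpa using F.mem_zero 1
  | insert a s ha ih =>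
    rw [prod_insert ha, sum_insert ha]
    exact F.mul_mem (h a (mem_insert_self a s)) (ih fun i hi => h i (mem_insert_of_mem hi))

lemma list_prod_mem {β : Type*} (f : β → A) (w : β → ℕ) :
    ∀ l : List β, (∀ p ∈ l, f p ∈ F.G (w p)) → (l.map f).prod ∈ F.G (l.map w).sum
  | [], _ => by simpa using F.mem_zero 1
  | a :: l, h => by
    rw [List.map_cons, List.map_cons, List.prod_cons, List.sum_cons]
    exact F.mul_mem (h a (by simp)) (list_prod_mem f w l fun p hp => h p (by simp [hp]))

/-- the trivial family -/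
def top : GFil A where
  G _ := ⊤
  zero_eq := rfl
  anti _ := le_rfl
  mul_mem _ _ := trivial

/-- powers of an ideal -/
def pow (I : Ideal A) : GFil A where
  G k := I ^ k
  zero_eq := by rw [pow_zero, Ideal.one_eq_top]
  anti h := Ideal.pow_le_pow_right h
  mul_mem ha hb := by rw [pow_add]; exact Ideal.mul_mem_mul ha hb

variable [LambdaOps A]

/-- `z` has `γ^i z` in the `i`-th ideal for every `i` -/
def Good (z : A) : Prop := ∀ i, gamma i z ∈ F.G i

variable {F}

lemma good_zero : F.Good (0 : A) := by
  intro i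
  cases i with
  | zero => exact F.mem_zero _
  | succ i => rw [gamma_zero_eq]; exact Submodule.zero_mem _

lemma Good.add {x y : A} (hx : F.Good x) (hy : F.Good y) : F.Good (x + y) := by
  intro k
  rw [gamma_add]
  refine Submodule.sum_mem _ fun i hi => ?_
  have := F.mul_mem (hx i) (hy (k - i))
  rwa [Nat.add_sub_cancel' (Nat.lt_succ_iff.1 (mem_range.1 hi))] at this

lemma Good.neg {x : A} (hx : F.Good x) : F.Good (-x) := by
  intro k
  induction k using Nat.strong_induction_on with
  | _ k ih =>
    cases k with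
    | zero => exact F.mem_zero _
    | succ k =>
      rw [gamma_neg_succ]
      refine Submodule.neg_mem _ (Submodule.sum_mem _ fun i hi => ?_)
      have := F.mul_mem (hx (i + 1)) (ih (k - i) (by omega))
      rwa [show i + 1 + (k - i) = k + 1 by have := mem_range.1 hi; omega] at this

lemma Good.sub {x y : A} (hx : F.Good x) (hy : F.Good y) : F.Good (x - y) :=
  sub_eq_add_neg x y ▸ hx.add hy.neg

variable (F) in
/-- the additive subgroup of good elements -/
def goodAddSubgroup : AddSubgroup A where
  carrier := {z | F.Good z}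
  add_mem' := fun ha hb => ha.add hb
  zero_mem' := good_zero
  neg_mem' := fun ha => ha.neg

lemma mem_goodAddSubgroup {z : A} : z ∈ F.goodAddSubgroup ↔ F.Good z := Iff.rfl

lemma Good.multiset_sum {s : Multiset A} (h : ∀ z ∈ s, F.Good z) : F.Good s.sum :=
  F.goodAddSubgroup.multiset_sum_mem s h

lemma Good.finset_sum {ι : Type*} {s : Finset ι} {f : ι → A} (h : ∀ i ∈ s, F.Good (f i)) :
    F.Good (∑ i ∈ s, f i) :=
  F.goodAddSubgroup.sum_mem h

end GFil

section

variable {A K : Type*} [CommRing A] [LambdaOps A] [CommRing K] (ε : A →+* K)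

lemma gammaFil_zero : gammaFil ε 0 = ⊤ :=
  (Ideal.eq_top_iff_one _).2 (Ideal.subset_span ⟨[], by simp, by simp, by simp⟩)

lemma gammaFil_anti {m n : ℕ} (h : m ≤ n) : gammaFil ε n ≤ gammaFil ε m :=
  Ideal.span_mono fun _ ⟨l, h1, h2, h3⟩ => ⟨l, h1, h.trans h2, h3⟩

lemma gammaFil_mul_mem {m n : ℕ} {a b : A} (ha : a ∈ gammaFil ε m) (hb : b ∈ gammaFil ε n) :
    a * b ∈ gammaFil ε (m + n) := by
  have h := Ideal.mul_mem_mul ha hb
  rw [gammaFil, gammaFil, Ideal.span_mul_span'] at h
  refine Ideal.span_mono ?_ h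
  rintro _ ⟨_, ⟨l, h1, h2, rfl⟩, _, ⟨l', h1', h2', rfl⟩, rfl⟩
  refine ⟨l ++ l', fun p hp => (List.mem_append.1 hp).elim (h1 p) (h1' p), ?_, by simp⟩
  rw [List.map_append, List.sum_append]; omega

/-- the γ-filtration as a family -/
def gammaGFil : GFil A where
  G := gammaFil ε
  zero_eq := gammaFil_zero ε
  anti := gammaFil_anti ε
  mul_mem := gammaFil_mul_mem ε

lemma gamma_mem_gammaFil {x : A} (hx : ε x = 0) (r : ℕ) : gamma r x ∈ gammaFil ε r :=
  Ideal.subset_span ⟨[(r, x)], by simpa using hx, by simp, by simp⟩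

lemma good_gammaFil {x : A} (hx : ε x = 0) : (gammaGFil ε).Good x := gamma_mem_gammaFil ε hx

lemma mem_gammaFil_one {x : A} (hx : ε x = 0) : x ∈ gammaFil ε 1 := by
  simpa [gamma_one] using gamma_mem_gammaFil ε hx 1

/-- minimality of the γ-filtration -/
lemma gammaFil_le (F : GFil A) (h : ∀ z, ε z = 0 → F.Good z) (n : ℕ) : gammaFil ε n ≤ F.G n := by
  refine Ideal.span_le.2 ?_
  rintro _ ⟨l, h1, h2, rfl⟩
  exact F.anti h2 (F.list_prod_mem _ Prod.fst l fun p hp => h p.2 (h1 p hp) p.1)

end

/-- the additive filtration of a positive structure is the γ-filtration by ideals -/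
lemma mem_gammaFiltration_iff {K : Type*} [CommRing K] [LambdaOps K] (P : PosStructure K) (n : ℕ) (x : K) :
    x ∈ gammaFiltration P n ↔ x ∈ gammaFil P.aug n := by
  rcases Nat.eq_zero_or_pos n with rfl | hn
  · simp [gammaFiltration, gammaFil_zero]
  rw [gammaFiltration, if_neg hn.ne', gammaFil]
  constructor
  · intro h
    exact (AddSubgroup.closure_le (K := (Ideal.span _).toAddSubgroup)).2 Ideal.subset_span h
  · intro h
    induction h using Submodule.span_induction with
    | mem y hy => exact AddSubgroup.subset_closure hy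
    | zero => exact zero_mem _
    | add a b _ _ ha hb => exact add_mem ha hb
    | smul a y hmem hy =>
      rw [smul_eq_mul]
      clear hmem
      induction hy using AddSubgroup.closure_induction with
      | mem y hy =>
        obtain ⟨l, h1, h2, rfl⟩ := hy
        rw [show a = (a - (P.aug a : K)) + (P.aug a : K) by ring, add_mul, ← zsmul_eq_mul]
        refine add_mem (AddSubgroup.subset_closure ⟨(1, a - (P.aug a : K)) :: l, ?_, ?_, ?_⟩)
          (zsmul_mem (AddSubgroup.subset_closure ?_) (P.aug a))
        · intro p hp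
          rcases List.mem_cons.1 hp with rfl | hp
          · simp
          · exact h1 p hp
        · simp only [List.map_cons, List.sum_cons]; omega
        · simp [gamma_one]
        · exact ⟨l, h1, h2, rfl⟩
      | zero => simp
      | add u v _ _ hu hv => rw [mul_add]; exact add_mem hu hv
      | neg u _ hu => rw [mul_neg]; exact neg_mem hu

end Groth.Agent.LamG
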