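import Groth.Agent.LamG.Transfer

/-! Consequences of the universal identities for the γ-operations of a special λ-ring. -/

namespace Groth.Agent.LamG

open Finset LambdaRing MvPolynomial
open Groth.Agent.Lead.Lam (W)

noncomputable section

variable {A : Type*} [CommRing A] [LambdaOps A]

lemma evV_C (x y : A) (c : ℤ) : evV x y (C c) = (c : A) := by simp [evV]

lemma gv_mem {F : GFil A} {x y : A} (hx : F.Good x) (hy : F.Good y) (s : ℕ ⊕ ℕ) :
    gv x y s ∈ F.G (wV s) := by
  cases s with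
  | inl j => exact hx (j + 1)
  | inr j => exact hy (j + 1)

lemma evV_mem {F : GFil A} {x y : A} (hx : F.Good x) (hy : F.Good y) {q : V} {k : ℕ}
    (hq : ∀ e ∈ q.support, k ≤ Finsupp.weight wV e) : evV x y q ∈ F.G k := by
  rw [evV, aeval_def]
  exact eval₂_mem F _ _ wV hq (gv_mem hx hy)

lemma xN_mem (N : ℕ) : xN N ∈ idealOfVars (Fin N ⊕ Fin N) ℤ :=
  Ideal.sum_mem _ fun i _ => Ideal.subset_span ⟨_, rfl⟩

lemma yN_mem (N : ℕ) : yN N ∈ idealOfVars (Fin N ⊕ Fin N) ℤ :=
  Ideal.sum_mem _ fun i _ => Ideal.subset_span ⟨_, rfl⟩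

variable (hA : IsSpecial A)
include hA

/-- λ^(n+1) on `γ^r x` -/
theorem lam_gamma_congr {F : GFil A} {x : A} (hx : F.Good x) (r n : ℕ) :
    LambdaOps.lam (n + 1) (gamma (r + 1) x) - (-1) ^ n * ((n + 1 : ℕ) : A) ^ r * gamma (r + 1) x
      ∈ F.G (r + 2) := by
  obtain ⟨q, hq, hq'⟩ := exists_lam_rep hA x 0 (n + 1) (X (Sum.inl r))
  set q₁ : V := q - C ((-1 : ℤ) ^ n * ((n + 1 : ℕ) : ℤ) ^ r) * X (Sum.inl r) with hq₁
  have hw : ∀ e ∈ q₁.support, r + 2 ≤ Finsupp.weight wV e := by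
    refine weights_gen fun N => ?_
    have h : evV (xN N) (yN N) q = LambdaOps.lam (n + 1) (evV (xN N) (yN N) (X (Sum.inl r))) :=
      hq' (N, Kind.gen)
    rw [evV_inl] at h
    rw [hq₁, map_sub, map_mul, evV_C, evV_inl, h]
    have := lam_sub_mem (Nat.succ_pos r) (gamma_mem_m (xN_mem N) (r + 1)) n
    simpa using this
  have := evV_mem hx GFil.good_zero hw
  rw [hq₁, map_sub, map_mul, evV_C, evV_inl, hq, evV_inl] at this
  simpa using this

/-- `γ^k (γ^r x)` lies in the `k`-th ideal -/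
theorem good_gamma {F : GFil A} {x : A} (hx : F.Good x) (r : ℕ) : F.Good (gamma (r + 1) x) := by
  intro k
  obtain ⟨q, hq, hq'⟩ := exists_gamma_rep hA x 0 k (X (Sum.inl r))
  have hw : ∀ e ∈ q.support, k ≤ Finsupp.weight wV e := by
    refine weights_gen fun N => ?_
    have h : evV (xN N) (yN N) q = gamma k (evV (xN N) (yN N) (X (Sum.inl r))) := hq' (N, Kind.gen)
    rw [evV_inl] at h
    rw [h]
    refine gamma_mem_m ?_ k
    exact Ideal.pow_le_self r.succ_ne_zero (gamma_mem_m (xN_mem N) (r + 1))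
  rw [← evV_inl x 0, ← hq]
  exact evV_mem hx GFil.good_zero hw

/-- the universal polynomial for `γ^k (x y)` -/
theorem exists_gamma_mul_rep (x y : A) (k : ℕ) :
    ∃ q : V, evV x y q = gamma k (x * y) ∧ (∀ e ∈ q.support, k ≤ Finsupp.weight wV e) ∧
      (1 ≤ k → ∀ e ∈ q.support, ∃ j, Sum.inr j ∈ e.support) := by
  obtain ⟨q, hq, hq'⟩ := exists_gamma_rep hA x y k (X (Sum.inl 0) * X (Sum.inr 0))
  refine ⟨q, by simpa [evV_inl, evV_inr, gamma_one] using hq, weights_gen fun N => ?_, fun hk e he => ?_⟩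
  · have h : evV (xN N) (yN N) q = gamma k (evV (xN N) (yN N) (X (Sum.inl 0) * X (Sum.inr 0))) :=
      hq' (N, Kind.gen)
    rw [map_mul, evV_inl, evV_inr, gamma_one, gamma_one] at h
    rw [h]
    exact gamma_mem_m (Ideal.mul_mem_right _ _ (xN_mem N)) k
  · obtain ⟨N, hN⟩ := exists_bound e
    have h : evV (xN N) 0 q = gamma k (evV (xN N) 0 (X (Sum.inl 0) * X (Sum.inr 0))) :=
      hq' (N, Kind.xOnly)
    rw [map_mul, evV_inl, evV_inr, gamma_one, gamma_one, mul_zero] at h
    obtain ⟨k, rfl⟩ := Nat.exists_eq_add_of_le' hk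
    rw [gamma_zero_eq] at h
    obtain ⟨s, hs, hs'⟩ := support_xOnly h e he
    cases s with
    | inl j =>
      have h1 := hs' j rfl
      have h2 : j < N := by simpa using hN hs
      omega
    | inr j => exact ⟨j, hs⟩

theorem good_mul {F : GFil A} {x y : A} (hx : F.Good x) (hy : F.Good y) : F.Good (x * y) := by
  intro k
  obtain ⟨q, hq, hw, -⟩ := exists_gamma_mul_rep hA x y k
  rw [← hq]
  exact evV_mem hx hy hw

/-- `γ^k (x y)` when the `γ^j y` are multiples of `g` -/
theorem gamma_mul_mem {F : GFil A} {x y g : A} {d : ℕ} (hx : F.Good x) (hy : F.Good y)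
    (hg : ∀ j, gamma (j + 1) y ∈ Ideal.span {g} * F.G (j + 1 - d)) (k : ℕ) (hk : 1 ≤ k) :
    gamma k (x * y) ∈ Ideal.span {g} * F.G (k - d) := by
  obtain ⟨q, hq, hw, hi⟩ := exists_gamma_mul_rep hA x y k
  rw [← hq, evV, aeval_def]
  refine eval₂_mem_mul F _ _ wV hw (gv_mem hx hy) fun e he => ?_
  obtain ⟨j, hj⟩ := hi hk e he
  exact ⟨_, hj, hg j⟩

section scalar

variable {K : Type*} [CommRing K] [LambdaOps K] [BinomialRing K] (hKb : IsBinomial K)

omit hA [LambdaOps K] in
lemma exists_poly_binomial (f : MvPolynomial ℕ ℤ) :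
    ∃ D : ℕ, D ≠ 0 ∧ ∃ P : Polynomial ℤ,
      (∀ c : K, (D : K) * MvPolynomial.aeval (fun j : ℕ => Ring.choose (c + (j : K)) (j + 1)) f = Polynomial.aeval c P) ∧
      ∀ c : ℤ, (D : ℤ) * MvPolynomial.aeval (fun j : ℕ => Ring.choose (c + (j : ℤ)) (j + 1)) f = Polynomial.aeval c P := by
  induction f using MvPolynomial.induction_on with
  | C a => exact ⟨1, one_ne_zero, Polynomial.C a, fun c => by simp, fun c => by simp⟩
  | add p q hp hq =>
    obtain ⟨D, hD, P, h1, h2⟩ := hp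
    obtain ⟨D', hD', P', h1', h2'⟩ := hq
    refine ⟨D * D', mul_ne_zero hD hD', Polynomial.C (D' : ℤ) * P + Polynomial.C (D : ℤ) * P',
      fun c => ?_, fun c => ?_⟩
    · simp [map_add, mul_add, ← h1, ← h1']; ring
    · rw [map_add, map_add, map_mul, map_mul, Polynomial.aeval_C, Polynomial.aeval_C, ← h2, ← h2']
      simp only [eq_intCast, Int.cast_id, Nat.cast_mul]
      ring
  | mul_X p j hp =>
    obtain ⟨D, hD, P, h1, h2⟩ := hp
    refine ⟨D * (j + 1).factorial, mul_ne_zero hD (Nat.factorial_ne_zero _),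
      P * (descPochhammer ℤ (j + 1)).comp (Polynomial.X + (j : Polynomial ℤ)), fun c => ?_, fun c => ?_⟩
    · have e := Ring.descPochhammer_eq_factorial_smul_choose (c + j) (j + 1)
      rw [← Polynomial.aeval_eq_smeval, nsmul_eq_mul] at e
      rw [map_mul, map_mul, aeval_X, Polynomial.aeval_comp, ← h1]
      simp only [map_add, Polynomial.aeval_X, map_natCast, e]
      push_cast; ring
    · have e := Ring.descPochhammer_eq_factorial_smul_choose (c + j) (j + 1)
      rw [← Polynomial.aeval_eq_smeval, nsmul_eq_mul] at e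
      rw [map_mul, map_mul, aeval_X, Polynomial.aeval_comp, ← h2]
      simp only [map_add, Polynomial.aeval_X, map_natCast, e]
      push_cast; ring

include hKb

omit hA in
lemma binomial_lam_one (k : ℕ) (hk : 2 ≤ k) : LambdaOps.lam k (1 : K) = 0 := by
  rw [hKb, ← Nat.cast_one, Ring.choose_natCast, Nat.choose_eq_zero_of_lt (by omega), Nat.cast_zero]

omit hA in
/-- a polynomial in the `γ^{j+1}` vanishing at the natural numbers vanishes on a binomial ring -/
lemma aeval_gamma_eq_zero (f : MvPolynomial ℕ ℤ) (hf : ∀ m : ℕ, MvPolynomial.aeval (natGamma m) f = 0) (c : K) :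
    MvPolynomial.aeval (fun j => gamma (j + 1) c) f = 0 := by
  obtain ⟨D, hD, P, h1, h2⟩ := exists_poly_binomial (K := K) f
  have hP : P = 0 := by
    refine Polynomial.eq_zero_of_infinite_isRoot P (Set.infinite_of_injective_forall_mem
      (f := fun m : ℕ => (m : ℤ)) Nat.cast_injective fun m => ?_)
    have e : (fun j : ℕ => Ring.choose ((m : ℤ) + j) (j + 1)) = natGamma m := by
      funext j; rw [natGamma, ← Nat.cast_add, Ring.choose_natCast]
    have := h2 (m : ℤ)
    rw [e, hf, mul_zero] at this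
    simpa [Polynomial.IsRoot, Polynomial.coe_aeval_eq_eval] using this.symm
  have := h1 c
  rw [hP, map_zero] at this
  let _ : IsAddTorsionFree K := BinomialRing.toIsAddTorsionFree
  have hg : (fun j => gamma (j + 1) c) = fun j : ℕ => Ring.choose (c + (j : K)) (j + 1) := by
    funext j; rw [gamma_eq_lam (binomial_lam_one hKb), hKb]
  rw [hg]
  exact nsmul_right_injective hD (by simpa [nsmul_eq_mul] using this)

/-- `γ^k (c a)` for a scalar `c` from a binomial ring -/
theorem exists_gamma_scalar_rep (φ : K →+* A) (hφ : ∀ i z, φ (LambdaOps.lam i z) = LambdaOps.lam i (φ z))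
    (c : K) (a : A) (k : ℕ) :
    ∃ q : MvPolynomial ℕ A, eval₂ (RingHom.id A) (fun j => gamma (j + 1) a) q = gamma k (φ c * a) ∧
      ∀ e ∈ q.support, k ≤ Finsupp.weight (fun j => j + 1) e := by
  classical
  obtain ⟨q, hq, hq'⟩ := exists_gamma_rep hA (φ c) a k (X (Sum.inl 0) * X (Sum.inr 0))
  refine ⟨MvPolynomial.map (MvPolynomial.aeval (R := ℤ) fun j => gamma (j + 1) (φ c)).toRingHom (sep q),
    ?_, fun e he => ?_⟩
  · rw [eval₂_map, RingHom.id_comp, ← evV_eq_sep, hq]
    simp [evV_inl, evV_inr, gamma_one]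
  · by_contra hlt
    have hsc : ∀ N m : ℕ, evV (m : W N) (yN N) q ∈ idealOfVars (Fin N ⊕ Fin N) ℤ ^ k := by
      intro N m
      have h : evV (m : W N) (yN N) q = gamma k (evV (m : W N) (yN N) (X (Sum.inl 0) * X (Sum.inr 0))) :=
        hq' (N, Kind.scal m)
      rw [map_mul, evV_inl, evV_inr, gamma_one, gamma_one] at h
      rw [h]
      exact gamma_mem_m (Ideal.mul_mem_left _ _ (yN_mem N)) k
    have h0 := aeval_gamma_eq_zero hKb (coeff e (sep q)) (coeff_scal hsc e (not_le.1 hlt)) c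
    have h1 := congrArg φ h0
    rw [map_aeval_int, map_zero] at h1
    simp only [map_gamma φ hφ] at h1
    rw [mem_support_iff, coeff_map] at he
    exact he h1

theorem good_scalar {F : GFil A} (φ : K →+* A) (hφ : ∀ i z, φ (LambdaOps.lam i z) = LambdaOps.lam i (φ z))
    (c : K) {a : A} (ha : F.Good a) : F.Good (φ c * a) := by
  intro k
  obtain ⟨q, hq, hw⟩ := exists_gamma_scalar_rep hA hKb φ hφ c a k
  rw [← hq]
  exact eval₂_mem F _ _ _ hw fun j => ha (j + 1)

theorem gamma_scalar_mem {F : GFil A} (φ : K →+* A) (hφ : ∀ i z, φ (LambdaOps.lam i z) = LambdaOps.lam i (φ z))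
    (c : K) {a g : A} {d : ℕ} (ha : F.Good a)
    (hg : ∀ j, gamma (j + 1) a ∈ Ideal.span {g} * F.G (j + 1 - d)) (k : ℕ) (hk : 1 ≤ k) :
    gamma k (φ c * a) ∈ Ideal.span {g} * F.G (k - d) := by
  obtain ⟨q, hq, hw⟩ := exists_gamma_scalar_rep hA hKb φ hφ c a k
  rw [← hq]
  refine eval₂_mem_mul F _ _ _ hw (fun j => ha (j + 1)) fun e he => ?_
  obtain ⟨j, hj⟩ : e.support.Nonempty := by
    rw [Finsupp.support_nonempty_iff]
    rintro rfl
    have := hw 0 he
    simp at this
    omega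
  exact ⟨j, hj, hg j⟩

end scalar

/-! ### The top γ-operation of an element of bounded rank -/

omit hA in
theorem div_core {F : GFil A} {z : A} {d k : ℕ} (hz : F.Good z) (htop : ∀ j, d + 1 < j → gamma j z = 0)
    {q : V} (hw : ∀ N, evV (xN N) (yN N) q ∈ idealOfVars (Fin N ⊕ Fin N) ℤ ^ k)
    (h0 : evV (xN d) 0 q = 0) :
    evV z 0 q ∈ Ideal.span {gamma (d + 1) z} * F.G (k - (d + 1)) := by
  rw [evV, aeval_def]
  refine eval₂_mem_mul F _ _ wV (weights_gen hw) (gv_mem hz GFil.good_zero) fun e he => ?_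
  obtain ⟨s, hs, hs'⟩ := support_xOnly h0 e he
  refine ⟨s, hs, ?_⟩
  cases s with
  | inl j =>
    rcases Nat.eq_or_lt_of_le (hs' j rfl) with h | h
    · subst h
      simp only [gv, wV, Sum.elim_inl, Nat.sub_self, F.zero_eq]
      exact Ideal.mem_span_singleton_mul.2 ⟨1, trivial, by simp⟩
    · simp [gv, htop (j + 1) (by omega)]
  | inr j => simp [gv, gamma_zero_eq]

/-- `γ^d z` divides its λ-operations when `γ^j z = 0` for `j > d` -/
theorem lam_top_dvd {z : A} {d : ℕ} (htop : ∀ j, d + 1 < j → gamma j z = 0) (n : ℕ) :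
    gamma (d + 1) z ∣ LambdaOps.lam (n + 1) (gamma (d + 1) z) := by
  obtain ⟨q, hq, hq'⟩ := exists_lam_rep hA z 0 (n + 1) (X (Sum.inl d))
  have h := div_core (F := GFil.top) (z := z) (k := 0) (q := q) (fun _ => Submodule.mem_top) htop
    (fun N => by rw [pow_zero, Ideal.one_eq_top]; exact Submodule.mem_top) (by
      have h : evV (xN d) 0 q = LambdaOps.lam (n + 1) (evV (xN d) 0 (X (Sum.inl d))) := hq' (d, Kind.xOnly)
      rw [evV_inl] at h
      rwa [gamma_xN_eq_zero le_rfl, lam_zero_eq] at h)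
  rw [hq, evV_inl] at h
  obtain ⟨w, _, hw⟩ := Ideal.mem_span_singleton_mul.1 h
  exact ⟨w, hw.symm⟩

theorem lam_top_congr {F : GFil A} {z : A} {d : ℕ} (hz : F.Good z)
    (htop : ∀ j, d + 1 < j → gamma j z = 0) (n : ℕ) :
    LambdaOps.lam (n + 1) (gamma (d + 1) z) - (-1) ^ n * ((n + 1 : ℕ) : A) ^ d * gamma (d + 1) z
      ∈ Ideal.span {gamma (d + 1) z} * F.G 1 := by
  obtain ⟨q, hq, hq'⟩ := exists_lam_rep hA z 0 (n + 1) (X (Sum.inl d))
  have h := div_core (k := d + 2) hz htop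
    (q := q - C ((-1 : ℤ) ^ n * ((n + 1 : ℕ) : ℤ) ^ d) * X (Sum.inl d)) (fun N => by
      have h : evV (xN N) (yN N) q = LambdaOps.lam (n + 1) (evV (xN N) (yN N) (X (Sum.inl d))) := hq' (N, Kind.gen)
      rw [evV_inl] at h
      rw [map_sub, map_mul, evV_C, evV_inl, h]
      simpa using lam_sub_mem (Nat.succ_pos d) (gamma_mem_m (xN_mem N) (d + 1)) n) (by
      have h : evV (xN d) 0 q = LambdaOps.lam (n + 1) (evV (xN d) 0 (X (Sum.inl d))) := hq' (d, Kind.xOnly)
      rw [evV_inl] at h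
      rw [gamma_xN_eq_zero le_rfl, lam_zero_eq] at h
      rw [map_sub, map_mul, evV_inl, gamma_xN_eq_zero le_rfl, mul_zero, sub_zero, h])
  rw [map_sub, map_mul, evV_C, evV_inl, hq, evV_inl, show d + 2 - (d + 1) = 1 by omega] at h
  simpa using h

theorem gamma_top_mem {F : GFil A} {z : A} {d : ℕ} (hz : F.Good z)
    (htop : ∀ j, d + 1 < j → gamma j z = 0) (n : ℕ) :
    gamma (n + 1) (gamma (d + 1) z) ∈ Ideal.span {gamma (d + 1) z} * F.G (n + 1 - (d + 1)) := by
  obtain ⟨q, hq, hq'⟩ := exists_gamma_rep hA z 0 (n + 1) (X (Sum.inl d))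
  have h := div_core (k := n + 1) hz htop (q := q) (fun N => by
      have h : evV (xN N) (yN N) q = gamma (n + 1) (evV (xN N) (yN N) (X (Sum.inl d))) := hq' (N, Kind.gen)
      rw [evV_inl] at h
      rw [h]
      exact gamma_mem_m (Ideal.pow_le_self d.succ_ne_zero (gamma_mem_m (xN_mem N) (d + 1))) (n + 1)) (by
      have h : evV (xN d) 0 q = gamma (n + 1) (evV (xN d) 0 (X (Sum.inl d))) := hq' (d, Kind.xOnly)
      rw [evV_inl] at h
      rwa [gamma_xN_eq_zero le_rfl, gamma_zero_eq] at h)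
  rwa [hq, evV_inl] at h

end

end Groth.Agent.LamG
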