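import Groth.Agent.LamG.Laws

/-! λ-operations of a product to first order in the second factor, and the leading terms on the γ-filtration. -/

namespace Groth.Agent.LamG

open Finset LambdaRing MvPolynomial
open Groth.Agent.Lead.Lam (W U nw rec_eq rec_split map_nw gen gen_zero gen_of_le map_gen nwX Pseq Pgen
  nw_Pseq evW evW_Pgen evW_inl ev_nwX adamsOp_eq exists_mulPoly)

noncomputable section

/-- polynomials all of whose monomials have weight at least `k` -/
def wFil {τ : Type*} (w : τ → ℕ) : GFil (MvPolynomial τ ℤ) where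
  G k :=
    { carrier := {p | ∀ e, Finsupp.weight w e < k → coeff e p = 0}
      zero_mem' := fun e _ => coeff_zero e
      add_mem' := fun {p q} hp hq e he => by rw [coeff_add, hp e he, hq e he, add_zero]
      smul_mem' := fun c p hp e he => by
        classical
        rw [smul_eq_mul, coeff_mul]
        refine Finset.sum_eq_zero fun x hx => ?_
        rw [hp x.2 (by
          have := congrArg (Finsupp.weight w) (Finset.mem_antidiagonal.1 hx)
          rw [map_add] at this; omega), mul_zero] }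
  zero_eq := (Ideal.eq_top_iff_one _).2 fun e he => absurd he (Nat.not_lt_zero _)
  anti h p hp e he := hp e (lt_of_lt_of_le he h)
  mul_mem {m n a b} ha hb e he := by
    classical
    rw [coeff_mul]
    refine Finset.sum_eq_zero fun x hx => ?_
    have := congrArg (Finsupp.weight w) (Finset.mem_antidiagonal.1 hx)
    rw [map_add] at this
    by_cases h : Finsupp.weight w x.1 < m
    · rw [ha x.1 h, zero_mul]
    · rw [hb x.2 (by omega), mul_zero]

lemma mem_wFil {τ : Type*} {w : τ → ℕ} {k : ℕ} {p : MvPolynomial τ ℤ} :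
    p ∈ (wFil w).G k ↔ ∀ e, Finsupp.weight w e < k → coeff e p = 0 := Iff.rfl

lemma wFil_saturated {τ : Type*} {w : τ → ℕ} {k c : ℕ} (hc : c ≠ 0) {p : MvPolynomial τ ℤ}
    (h : p * (c : MvPolynomial τ ℤ) ∈ (wFil w).G k) : p ∈ (wFil w).G k := by
  intro e he
  have := h e he
  rw [← map_natCast (C : ℤ →+* MvPolynomial τ ℤ) c, mul_comm, coeff_C_mul] at this
  exact (mul_eq_zero.1 this).resolve_left (by exact_mod_cast hc)

lemma X_mem_wFil {τ : Type*} (w : τ → ℕ) (s : τ) : (X s : MvPolynomial τ ℤ) ∈ (wFil w).G (w s) := by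
  classical
  intro e he
  rw [coeff_X, if_neg]
  rintro rfl
  simp [Finsupp.weight_single] at he

lemma nw_mem_wFil {τ : Type*} {w : τ → ℕ} {c : ℕ → MvPolynomial τ ℤ} (h0 : c 0 = 1)
    (hc : ∀ t, c (t + 1) ∈ (wFil w).G 1) (k : ℕ) : nw c k ∈ (wFil w).G 1 := by
  induction k using Nat.strong_induction_on with
  | _ k ih =>
    have h : (-1 : MvPolynomial τ ℤ) ^ k * nw c k ∈ (wFil w).G 1 := by
      rw [rec_split h0]
      exact sub_mem (Ideal.mul_mem_right _ _ (hc k))
        (Submodule.sum_mem _ fun i hi => Ideal.mul_mem_right _ _ (Ideal.mul_mem_left _ _ (ih i (mem_range.1 hi))))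
    have h2 := Ideal.mul_mem_left _ ((-1 : MvPolynomial τ ℤ) ^ k) h
    rwa [← mul_assoc, ← mul_pow, neg_one_mul, neg_neg, one_pow, one_mul] at h2

/-- weight counting the variables of the first family -/
def degX (N : ℕ) : Fin N ⊕ Fin N → ℕ := Sum.elim (fun _ => 1) (fun _ => 0)

/-- weight counting the variables of the second family -/
def degY (N : ℕ) : Fin N ⊕ Fin N → ℕ := Sum.elim (fun _ => 0) (fun _ => 1)

lemma exists_mem_support_of_isMulPoly {n : ℕ} (hn : 1 ≤ n) {P : MvPolynomial (Fin n ⊕ Fin n) ℤ}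
    (hP : IsMulPoly n P) {e : Fin n ⊕ Fin n →₀ ℕ} (he : coeff e P ≠ 0) :
    (∃ a, Sum.inl a ∈ e.support) ∧ ∃ b, Sum.inr b ∈ e.support := by
  have h := hP.2 he
  rw [Finsupp.weight_apply, Finsupp.sum] at h
  constructor
  · by_contra hcon
    push Not at hcon
    have h1 := congrArg Prod.fst h
    rw [Prod.fst_sum, Finset.sum_eq_zero] at h1
    · simp at h1; omega
    · intro s hs; cases s with
      | inl a => exact absurd hs (hcon a)
      | inr b => simp
  · by_contra hcon
    push Not at hcon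
    have h1 := congrArg Prod.snd h
    rw [Prod.snd_sum, Finset.sum_eq_zero] at h1
    · simp at h1; omega
    · intro s hs; cases s with
      | inl a => simp
      | inr b => exact absurd hs (hcon b)

lemma Pgen_mem_degY {N t : ℕ} (ht : t + 1 ≤ N) : Pgen N (t + 1) ∈ (wFil (degY N)).G 1 := by
  intro e he
  rw [Pgen, dif_pos ht]
  by_contra hne
  obtain ⟨u, rfl, hu⟩ := coeff_rename_ne_zero _ _ _ hne
  obtain ⟨-, b, hb⟩ := exists_mem_support_of_isMulPoly (Nat.succ_pos t) (exists_mulPoly (t + 1)).choose_spec hu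
  rw [weight_mapDomain, Finsupp.weight_apply, Finsupp.sum] at he
  have := Finset.single_le_sum
    (f := fun s => u s • (degY N ∘ Sum.map (Fin.castLE ht) (Fin.castLE ht)) s) (fun _ _ => Nat.zero_le _) hb
  simp only [smul_eq_mul, degY, Function.comp_apply, Sum.map_inr, Sum.elim_inr, mul_one] at this he
  exact (Finsupp.mem_support_iff.1 hb) (by omega)

lemma Pgen_mem_degX {N t : ℕ} (ht : t + 1 ≤ N) : Pgen N (t + 1) ∈ (wFil (degX N)).G 1 := by
  intro e he
  rw [Pgen, dif_pos ht]
  by_contra hne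
  obtain ⟨u, rfl, hu⟩ := coeff_rename_ne_zero _ _ _ hne
  obtain ⟨⟨b, hb⟩, -⟩ := exists_mem_support_of_isMulPoly (Nat.succ_pos t) (exists_mulPoly (t + 1)).choose_spec hu
  rw [weight_mapDomain, Finsupp.weight_apply, Finsupp.sum] at he
  have := Finset.single_le_sum
    (f := fun s => u s • (degX N ∘ Sum.map (Fin.castLE ht) (Fin.castLE ht)) s) (fun _ _ => Nat.zero_le _) hb
  simp only [smul_eq_mul, degX, Function.comp_apply, Sum.map_inl, Sum.elim_inl, mul_one] at this he
  exact (Finsupp.mem_support_iff.1 hb) (by omega)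

lemma rename_nwX_eq (N k : ℕ) {τ : Type*} (f : Fin N → τ) :
    rename f (nwX N k) = nw (gen N fun i => (X (f i) : MvPolynomial τ ℤ)) k := by
  have h := map_nw (rename (R := ℤ) f).toRingHom (gen_zero N (X : Fin N → U N)) k
  rw [AlgHom.toRingHom_eq_coe, RingHom.coe_coe] at h
  rw [nwX, h]
  congr 1
  funext t
  rw [map_gen]
  simp

/-- the error term of the linearisation -/
def linErr (n : ℕ) : W (n + 1) :=
  Pgen (n + 1) (n + 1) - rename Sum.inl (nwX (n + 1) n) * X (Sum.inr (Fin.last n))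

lemma linErr_mem_degX (n : ℕ) : linErr n ∈ (wFil (degX (n + 1))).G 1 := by
  refine sub_mem (Pgen_mem_degX le_rfl) (Ideal.mul_mem_right _ _ ?_)
  rw [rename_nwX_eq]
  refine nw_mem_wFil (gen_zero _ _) (fun t => ?_) n
  by_cases ht : t + 1 ≤ n + 1
  · rw [gen_of_le _ (Nat.succ_pos t) ht]
    exact X_mem_wFil (degX (n + 1)) (Sum.inl ⟨t + 1 - 1, by omega⟩)
  · simp [gen, ht]

lemma linErr_mem_degY (n : ℕ) : linErr n ∈ (wFil (degY (n + 1))).G 2 := by
  set F := wFil (degY (n + 1))
  apply wFil_saturated (c := n + 1) (by omega)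
  set g : ℕ → W (n + 1) := gen (n + 1) fun i => X (Sum.inr i) with hg
  have hg1 : ∀ t, g (t + 1) ∈ F.G 1 := by
    intro t
    by_cases ht : t + 1 ≤ n + 1
    · rw [hg, gen_of_le _ (Nat.succ_pos t) ht]
      exact X_mem_wFil (degY (n + 1)) (Sum.inr ⟨t + 1 - 1, by omega⟩)
    · simp [hg, gen, ht]
  have hP1 : ∀ t, t + 1 ≤ n + 1 → Pseq (n + 1) (t + 1) ∈ F.G 1 := by
    intro t ht
    rw [Pseq, if_neg (Nat.succ_ne_zero t)]
    exact Pgen_mem_degY ht
  have hPnw : ∀ i < n + 1, nw (Pseq (n + 1)) i = rename Sum.inl (nwX (n + 1) i) * nw g i := by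
    intro i hi
    rw [nw_Pseq hi, rename_nwX_eq (n + 1) i (Sum.inr : Fin (n + 1) → _)]
  have hP := rec_eq (c := Pseq (n + 1)) (by simp [Pseq]) n
  have hY := rec_eq (c := g) (gen_zero _ _) n
  rw [sum_range_succ, Nat.sub_self] at hP hY
  rw [hPnw n (Nat.lt_succ_self n), show Pseq (n + 1) 0 = 1 by simp [Pseq], mul_one,
    show Pseq (n + 1) (n + 1) = Pgen (n + 1) (n + 1) by simp [Pseq]] at hP
  rw [show g 0 = 1 from gen_zero _ _, mul_one,
    show g (n + 1) = X (Sum.inr (Fin.last n)) by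
      rw [hg, gen_of_le _ (Nat.succ_pos n) le_rfl]; rfl] at hY
  have hS1 : ∑ i ∈ range n, (-1 : W (n + 1)) ^ i * nw (Pseq (n + 1)) i * Pseq (n + 1) (n - i) ∈ F.G 2 := by
    refine Submodule.sum_mem _ fun i hi => ?_
    obtain ⟨j, hj⟩ := Nat.exists_eq_add_of_le' (Nat.sub_pos_of_lt (mem_range.1 hi))
    rw [hPnw i (by have := mem_range.1 hi; omega), hj]
    exact F.mul_mem (Ideal.mul_mem_left _ _ (Ideal.mul_mem_left _ _ (nw_mem_wFil (gen_zero _ _) hg1 i)))
      (hP1 j (by omega))
  have hS2 : ∑ i ∈ range n, (-1 : W (n + 1)) ^ i * nw g i * g (n - i) ∈ F.G 2 := by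
    refine Submodule.sum_mem _ fun i hi => ?_
    obtain ⟨j, hj⟩ := Nat.exists_eq_add_of_le' (Nat.sub_pos_of_lt (mem_range.1 hi))
    rw [hj]
    exact F.mul_mem (Ideal.mul_mem_left _ _ (nw_mem_wFil (gen_zero _ _) hg1 i)) (hg1 j)
  have key := sub_mem hS1 (Ideal.mul_mem_left _ (rename Sum.inl (nwX (n + 1) n)) hS2)
  convert key using 1
  rw [linErr]
  push_cast at hP hY ⊢
  linear_combination hP - rename Sum.inl (nwX (n + 1) n) * hY

lemma exists_triple_of_mem {n : ℕ} {p : W (n + 1)} (hX : p ∈ (wFil (degX (n + 1))).G 1)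
    (hY : p ∈ (wFil (degY (n + 1))).G 2) {e : Fin (n + 1) ⊕ Fin (n + 1) →₀ ℕ} (he : coeff e p ≠ 0) :
    ∃ a b b' r, e = Finsupp.single (Sum.inl a) 1 + Finsupp.single (Sum.inr b) 1
      + Finsupp.single (Sum.inr b') 1 + r := by
  classical
  have h1 : 1 ≤ Finsupp.weight (degX (n + 1)) e := by
    by_contra h; exact he (hX e (by omega))
  obtain ⟨a, ha⟩ : ∃ a, e (Sum.inl a) ≠ 0 := by
    by_contra hcon
    push Not at hcon
    rw [Finsupp.weight_eq_sum, Fintype.sum_sum_type] at h1
    simp [degX, hcon] at h1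
  have h2 : 2 ≤ Finsupp.weight (degY (n + 1)) e := by
    by_contra h; exact he (hY e (by omega))
  rw [Finsupp.weight_eq_sum, Fintype.sum_sum_type] at h2
  simp [degY] at h2
  obtain ⟨b, hb⟩ : ∃ b, e (Sum.inr b) ≠ 0 := by
    by_contra hcon
    push Not at hcon
    simp [hcon] at h2
  obtain ⟨b', hb'⟩ : ∃ b', 1 + (if b' = b then 1 else 0) ≤ e (Sum.inr b') := by
    by_contra hcon
    push Not at hcon
    have := Finset.sum_le_sum (s := (univ : Finset (Fin (n + 1)))) (f := fun x => e (Sum.inr x))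
      (g := fun x => if x = b then 1 else 0) (fun x _ => by
        have := hcon x; split_ifs at this ⊢ <;> omega)
    simp at this
    omega
  refine ⟨a, b, b', e - (Finsupp.single (Sum.inl a) 1 + Finsupp.single (Sum.inr b) 1
      + Finsupp.single (Sum.inr b') 1), (add_tsub_cancel_of_le ?_).symm⟩
  intro s
  cases s with
  | inl x => by_cases hx : a = x <;> simp [hx]; subst hx; omega
  | inr x =>
    by_cases hx : b = x <;> by_cases hx' : b' = x <;> simp [Finsupp.single_apply, hx, hx'] at hb' ⊢ <;>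
      first | omega | (subst hx; omega)

variable {A : Type*} [CommRing A] [LambdaOps A] (hA : IsSpecial A)
include hA

/-- `λ^n(ab) ≡ ψ^n(a) λ^n(b)` up to terms quadratic in the `λ^i b` -/
theorem lam_mul_linear (a b : A) {I J : Ideal A} (hI : ∀ j, LambdaOps.lam (j + 1) a ∈ I)
    (hJ : ∀ j, LambdaOps.lam (j + 1) b ∈ J) (n : ℕ) :
    LambdaOps.lam (n + 1) (a * b) - adamsOp (n + 1) a * LambdaOps.lam (n + 1) b ∈ I * (J * J) := by
  classical
  have hev : evW (n + 1) a b (linErr n)
      = LambdaOps.lam (n + 1) (a * b) - adamsOp (n + 1) a * LambdaOps.lam (n + 1) b := by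
    rw [linErr, map_sub, map_mul, evW_inl, ev_nwX (Nat.lt_succ_self n), evW_Pgen le_rfl,
      hA.lam_mul (n + 1) _ (exists_mulPoly (n + 1)).choose_spec a b]
    simp [evW]
  rw [← hev, (linErr n).as_sum, map_sum]
  refine Submodule.sum_mem _ fun e he => ?_
  obtain ⟨i, b₁, b₂, r, rfl⟩ := exists_triple_of_mem (linErr_mem_degX n) (linErr_mem_degY n)
    (mem_support_iff.1 he)
  generalize coeff (Finsupp.single (Sum.inl i) 1 + Finsupp.single (Sum.inr b₁) 1
    + Finsupp.single (Sum.inr b₂) 1 + r) (linErr n) = c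
  have h1 := Ideal.mul_mem_mul (hI i) (Ideal.mul_mem_mul (hJ b₁) (hJ b₂))
  have e1 : (monomial (Finsupp.single (Sum.inl i) 1 + Finsupp.single (Sum.inr b₁) 1
      + Finsupp.single (Sum.inr b₂) 1 + r) c : W (n + 1))
      = monomial r c * (X (Sum.inl i) * (X (Sum.inr b₁) * X (Sum.inr b₂))) := by
    simp only [X, monomial_mul, mul_one]
    congr 1
    abel_nf
  rw [e1, map_mul, map_mul, map_mul]
  refine Ideal.mul_mem_left _ _ ?_
  simpa [evW] using h1

omit hA in
/-- `λ^(n+1)` is `(-1)^n (n+1)^p` on `z` modulo the next ideal -/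
def Top (F : GFil A) (p : ℕ) (z : A) : Prop :=
  ∀ n, LambdaOps.lam (n + 1) z ∈ F.G (p + 1) ∧
    LambdaOps.lam (n + 1) z - (-1) ^ n * ((n + 1 : ℕ) : A) ^ p * z ∈ F.G (p + 2)

variable {F : GFil A} {p : ℕ} {z w : A}

omit hA in
lemma Top.mem (h : Top F p z) : z ∈ F.G (p + 1) := by
  have := (h 0).1
  rwa [LambdaOps.lam_one] at this

omit hA in
lemma Top.of_mem (h : ∀ n, LambdaOps.lam (n + 1) z ∈ F.G (p + 2)) : Top F p z := fun n => by
  have hz : z ∈ F.G (p + 2) := by
    have := h 0
    rwa [LambdaOps.lam_one] at this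
  exact ⟨F.anti (Nat.le_succ _) (h n), sub_mem (h n) (Ideal.mul_mem_left _ _ hz)⟩

omit hA in
lemma Top.mono (h : Top F (p + 1) z) : Top F p z := Top.of_mem fun n => (h n).1

omit hA in
lemma Top.down {q : ℕ} (h : Top F q z) (hpq : p ≤ q) : Top F p z := by
  induction q with
  | zero => rwa [Nat.le_zero.1 hpq]
  | succ q ih =>
    rcases Nat.eq_or_lt_of_le hpq with rfl | hlt
    · exact h
    · exact ih h.mono (by omega)

omit hA in
lemma top_zero : Top F p (0 : A) := fun n => by simp [lam_zero_eq]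

omit hA in
lemma Top.add (hz : Top F p z) (hw : Top F p w) : Top F p (z + w) := by
  intro n
  have hcross : ∑ i ∈ range n, LambdaOps.lam (i + 1) z * LambdaOps.lam (n - i) w ∈ F.G (p + 2) := by
    refine Submodule.sum_mem _ fun i hi => ?_
    obtain ⟨j, hj⟩ := Nat.exists_eq_add_of_le' (Nat.sub_pos_of_lt (mem_range.1 hi))
    rw [hj]
    exact F.anti (by omega) (F.mul_mem (hz i).1 (hw j).1)
  have e : LambdaOps.lam (n + 1) (z + w) = LambdaOps.lam (n + 1) z + LambdaOps.lam (n + 1) w
      + ∑ i ∈ range n, LambdaOps.lam (i + 1) z * LambdaOps.lam (n - i) w := by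
    rw [LambdaOps.lam_add, sum_range_succ', sum_range_succ]
    simp [LambdaOps.lam_zero, Nat.add_sub_add_right]
    ring
  constructor
  · rw [e]; exact add_mem (add_mem (hz n).1 (hw n).1) (F.anti (Nat.le_succ _) hcross)
  · have := add_mem (add_mem (hz n).2 (hw n).2) hcross
    convert this using 1
    rw [e]; ring

omit hA in
lemma Top.neg (hz : Top F p z) : Top F p (-z) := by
  intro n
  induction n using Nat.strong_induction_on with
  | _ n ih =>
    have hcross : ∑ i ∈ range n, LambdaOps.lam (i + 1) z * LambdaOps.lam (n - i) (-z) ∈ F.G (p + 2) := by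
      refine Submodule.sum_mem _ fun i hi => ?_
      obtain ⟨j, hj⟩ := Nat.exists_eq_add_of_le' (Nat.sub_pos_of_lt (mem_range.1 hi))
      rw [hj]
      exact F.anti (by omega) (F.mul_mem (hz i).1 (ih j (by omega)).1)
    have e : LambdaOps.lam (n + 1) (-z)
        = -LambdaOps.lam (n + 1) z - ∑ i ∈ range n, LambdaOps.lam (i + 1) z * LambdaOps.lam (n - i) (-z) := by
      rw [lam_neg_succ, sum_range_succ, Nat.sub_self, LambdaOps.lam_zero]; ring
    constructor
    · rw [e]; exact sub_mem (neg_mem (hz n).1) (F.anti (Nat.le_succ _) hcross)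
    · have := sub_mem (neg_mem (hz n).2) hcross
      convert this using 1
      rw [e]; ring

omit hA in
/-- the Adams operations on a `Top` element -/
lemma Top.adams (hz : Top F p z) (n : ℕ) :
    adamsOp (n + 1) z ∈ F.G (p + 1) ∧ adamsOp (n + 1) z - ((n + 1 : ℕ) : A) ^ (p + 1) * z ∈ F.G (p + 2) := by
  induction n using Nat.strong_induction_on with
  | _ n ih =>
    have h := rec_eq (c := fun t => LambdaOps.lam t z) (LambdaOps.lam_zero z) n
    rw [sum_range_succ, Nat.sub_self, LambdaOps.lam_zero, mul_one, ← adamsOp_eq] at h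
    have hcross : ∑ i ∈ range n, (-1 : A) ^ i * nw (fun t => LambdaOps.lam t z) i * LambdaOps.lam (n - i) z
        ∈ F.G (p + 2) := by
      refine Submodule.sum_mem _ fun i hi => ?_
      obtain ⟨j, hj⟩ := Nat.exists_eq_add_of_le' (Nat.sub_pos_of_lt (mem_range.1 hi))
      rw [hj, ← adamsOp_eq, mul_assoc]
      exact F.anti (by omega) (Ideal.mul_mem_left _ _ (F.mul_mem (ih i (mem_range.1 hi)).1 (hz j).1))
    have hsq : (-1 : A) ^ n * (-1) ^ n = 1 := by rw [← mul_pow, neg_one_mul, neg_neg, one_pow]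
    have e2 : adamsOp (n + 1) z - ((n + 1 : ℕ) : A) ^ (p + 1) * z
        = (-1) ^ n * (((n + 1 : ℕ) : A) * (LambdaOps.lam (n + 1) z - (-1) ^ n * ((n + 1 : ℕ) : A) ^ p * z)
          - ∑ i ∈ range n, (-1 : A) ^ i * nw (fun t => LambdaOps.lam t z) i * LambdaOps.lam (n - i) z) := by
      push_cast at h ⊢
      linear_combination (norm := ring_nf) (-(-1 : A) ^ n) * h
        - (adamsOp (n + 1) z - ((n : A) + 1) ^ (p + 1) * z) * hsq
    have hcong : adamsOp (n + 1) z - ((n + 1 : ℕ) : A) ^ (p + 1) * z ∈ F.G (p + 2) := by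
      rw [e2]
      exact Ideal.mul_mem_left _ _ (sub_mem (Ideal.mul_mem_left _ _ (hz n).2) hcross)
    refine ⟨?_, hcong⟩
    have := add_mem (F.anti (Nat.le_succ _) hcong) (Ideal.mul_mem_left _ (((n + 1 : ℕ) : A) ^ (p + 1)) hz.mem)
    simpa using this

lemma Top.mul {q : ℕ} (hz : Top F p z) (hw : Top F q w) : Top F (p + q + 1) (z * w) := by
  intro n
  have herr := lam_mul_linear hA z w (fun j => (hz j).1) (fun j => (hw j).1) n
  have hle : F.G (p + 1) * (F.G (q + 1) * F.G (q + 1)) ≤ F.G (p + q + 1 + 2) := by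
    refine Ideal.mul_le.2 fun a ha b hb => ?_
    have hb' : b ∈ F.G ((q + 1) + (q + 1)) := Ideal.mul_le.2 (fun a ha b hb => F.mul_mem ha hb) hb
    exact F.anti (by omega) (F.mul_mem ha hb')
  have herr' := hle herr
  constructor
  · have h1 : adamsOp (n + 1) z * LambdaOps.lam (n + 1) w ∈ F.G (p + q + 1 + 1) :=
      F.anti (by omega) (F.mul_mem (hz.adams n).1 (hw n).1)
    have := add_mem (F.anti (Nat.le_succ _) herr') h1
    simpa using this
  · have h1 : (adamsOp (n + 1) z - ((n + 1 : ℕ) : A) ^ (p + 1) * z) * LambdaOps.lam (n + 1) w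
        ∈ F.G (p + q + 1 + 2) := F.anti (by omega) (F.mul_mem (hz.adams n).2 (hw n).1)
    have h2 : z * (LambdaOps.lam (n + 1) w - (-1) ^ n * ((n + 1 : ℕ) : A) ^ q * w) ∈ F.G (p + q + 1 + 2) :=
      F.anti (by omega) (F.mul_mem hz.mem (hw n).2)
    have := add_mem herr' (add_mem h1 (Ideal.mul_mem_left _ (((n + 1 : ℕ) : A) ^ (p + 1)) h2))
    convert this using 1
    rw [show p + q + 1 = q + (p + 1) by omega, pow_add]
    ring

lemma Top.scalar (a : A) (ha : ∀ k, adamsOp (k + 1) a - a ∈ F.G 1) (hz : Top F p z) : Top F p (a * z) := by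
  intro n
  have herr := lam_mul_linear hA a z (I := ⊤) (fun _ => Submodule.mem_top) (fun j => (hz j).1) n
  have hle : (⊤ : Ideal A) * (F.G (p + 1) * F.G (p + 1)) ≤ F.G (p + 2) := by
    rw [Ideal.top_mul]
    exact Ideal.mul_le.2 fun x hx y hy => F.anti (by omega) (F.mul_mem hx hy)
  have herr' := hle herr
  constructor
  · have := add_mem (F.anti (Nat.le_succ _) herr') (Ideal.mul_mem_left _ (adamsOp (n + 1) a) (hz n).1)
    simpa using this
  · have h1 : (adamsOp (n + 1) a - a) * LambdaOps.lam (n + 1) z ∈ F.G (p + 2) :=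
      F.anti (by omega) (F.mul_mem (ha n) (hz n).1)
    have := add_mem herr' (add_mem h1 (Ideal.mul_mem_left _ a (hz n).2))
    convert this using 1
    ring

lemma top_gamma {x : A} (hx : F.Good x) (r : ℕ) : Top F r (gamma (r + 1) x) := by
  intro n
  have h := lam_gamma_congr hA hx r n
  refine ⟨?_, h⟩
  have := add_mem (F.anti (Nat.le_succ _) h)
    (Ideal.mul_mem_left _ ((-1) ^ n * ((n + 1 : ℕ) : A) ^ r) (hx (r + 1)))
  simpa using this

end

section aug

variable {K : Type*} [CommRing K] [LambdaOps K] [BinomialRing K] (hKb : IsBinomial K)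
  {A : Type*} [CommRing A] [LambdaOps A] [Algebra K A] (hA : IsSpecial A) (ε : A →ₐ[K] K)
  (hε : IsAugLambdaAlg K A ε)
include hKb hε

lemma adamsOp_sub_mem (a : A) (k : ℕ) : adamsOp (k + 1) a - a ∈ gammaFil (ε : A →+* K) 1 := by
  apply mem_gammaFil_one
  rw [map_sub, map_adamsOp (ε : A →+* K) hε.map_lam, Groth.Agent.Lead.Lam.adamsOp_binomial hKb, sub_self]

include hA

theorem top_of_mem {p : ℕ} {z : A} (hz : z ∈ gammaFil (ε : A →+* K) (p + 1)) :
    Top (gammaGFil (ε : A →+* K)) p z := by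
  have hlist : ∀ (l : List (ℕ × A)), (∀ x ∈ l, (ε : A →+* K) x.2 = 0) → ∀ p, p + 1 ≤ (l.map Prod.fst).sum →
      Top (gammaGFil (ε : A →+* K)) p (l.map fun x => gamma x.1 x.2).prod := by
    intro l
    induction l with
    | nil => intro _ p h; simp at h
    | cons x l ih =>
      intro hl p h
      obtain ⟨r, x⟩ := x
      have ih' := ih (fun y hy => hl y (List.mem_cons_of_mem _ hy))
      simp only [List.map_cons, List.sum_cons, List.prod_cons] at h ⊢
      have hx := good_gammaFil (ε : A →+* K) (hl (r, x) (List.mem_cons_self))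
      cases r with
      | zero => rw [gamma_zero, one_mul]; exact ih' p (by omega)
      | succ r =>
        by_cases hpr : p ≤ r
        · rw [mul_comm]
          exact ((top_gamma hA hx r).scalar hA _ (adamsOp_sub_mem hKb ε hε _)).down hpr
        · have := (top_gamma hA hx r).mul hA (ih' (p - r - 1) (by omega))
          rwa [show r + (p - r - 1) + 1 = p by omega] at this
  induction hz using Submodule.span_induction with
  | mem y hy =>
    obtain ⟨l, h1, h2, rfl⟩ := hy
    exact hlist l h1 p h2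
  | zero => exact top_zero
  | add a b _ _ ha hb => exact ha.add hb
  | smul a b _ hb => exact hb.scalar hA a (adamsOp_sub_mem hKb ε hε a)

end aug

end Groth.Agent.LamG
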