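import Groth.Agent.LamG.Laws
import Groth.Prelude.Def_W4bkmilneecrracsp2Inv

/-! λ-rings with positive structure and the splitting property. -/

namespace Groth.Agent.LamG

open Finset LambdaRing
open Groth.Agent.Lead.Lam (es nw adamsOp_eq adamsOp_add map_esymm' W)

universe u

noncomputable section

variable {K : Type u} [CommRing K] [LambdaOps K] {P : PosStructure K}

lemma adams_zero_eq (P : PosStructure K) (x : K) : adams P 0 x = (P.aug x : K) := by
  simp [adams, adamsSeries, mul_assoc]

lemma adams_succ_eq (P : PosStructure K) (k : ℕ) (x : K) : adams P (k + 1) x = adamsOp (k + 1) x := by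
  have hc : PowerSeries.constantCoeff (lamSeries x) = 1 := by simp [lamSeries, LambdaOps.lam_zero]
  have h1 : lamSeries x * (lamSeries x).invOfUnit 1 = 1 := PowerSeries.mul_invOfUnit _ 1 (by simp [hc])
  have h2 : PowerSeries.rescale (-1 : K) (lamSeries x) * (PowerSeries.rescale (-1 : K) (lamSeries x)).invOfUnit 1 = 1 :=
    PowerSeries.mul_invOfUnit _ 1 (by
      rw [← PowerSeries.coeff_zero_eq_constantCoeff_apply, PowerSeries.coeff_rescale]
      simp [hc])
  have hinv : (PowerSeries.rescale (-1 : K) (lamSeries x)).invOfUnit 1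
      = PowerSeries.rescale (-1 : K) ((lamSeries x).invOfUnit 1) :=
    left_inv_eq_right_inv (by rw [mul_comm]; exact h2) (by rw [← map_mul, h1, map_one])
  have hd : PowerSeries.derivative K (PowerSeries.rescale (-1 : K) (lamSeries x))
      = -PowerSeries.rescale (-1 : K) (PowerSeries.derivative K (lamSeries x)) := by
    ext n
    rw [map_neg, PowerSeries.coeff_derivative, PowerSeries.coeff_rescale, PowerSeries.coeff_rescale,
      PowerSeries.coeff_derivative]
    ring
  rw [adams, adamsSeries, map_sub, PowerSeries.coeff_C, if_neg (Nat.succ_ne_zero k), mul_assoc,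
    PowerSeries.coeff_succ_X_mul, hd, hinv, neg_mul, ← map_mul, map_neg, PowerSeries.coeff_rescale, zero_sub,
    neg_neg]
  rfl

/-! ### Lines -/

lemma isLine_lam {u : K} (hu : P.IsLine u) (j : ℕ) (hj : 2 ≤ j) : LambdaOps.lam j u = 0 :=
  P.lam_eq_zero u hu.1 j (by rw [hu.2]; exact_mod_cast hj)

lemma isLine_one (P : PosStructure K) : P.IsLine (1 : K) := by
  refine ⟨?_, map_one _⟩
  simpa using P.natCast_mem 1 Nat.one_pos

lemma lam_one_eq_zero (P : PosStructure K) (j : ℕ) (hj : 2 ≤ j) : LambdaOps.lam j (1 : K) = 0 :=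
  isLine_lam (isLine_one P) j hj

lemma isLine_mul {u v : K} (hu : P.IsLine u) (hv : P.IsLine v) : P.IsLine (u * v) :=
  ⟨P.mul_mem u v hu.1 hv.1, by rw [map_mul, hu.2, hv.2, mul_one]⟩

lemma isLine_pow {u : K} (hu : P.IsLine u) : ∀ k : ℕ, P.IsLine (u ^ k)
  | 0 => by simpa using isLine_one P
  | k + 1 => by rw [pow_succ]; exact isLine_mul (isLine_pow hu k) hu

lemma aug_sum_lines {s : Multiset K} (hs : ∀ u ∈ s, P.IsLine u) : P.aug s.sum = (Multiset.card s : ℤ) := by
  rw [map_multiset_sum, Multiset.map_congr rfl (fun u hu => (hs u hu).2)]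
  simp

lemma adamsOp_sum_lines {s : Multiset K} (hs : ∀ u ∈ s, P.IsLine u) (k : ℕ) :
    adamsOp (k + 1) s.sum = (s.map (· ^ (k + 1))).sum := by
  rw [← adamsAddHom_apply, map_multiset_sum]
  exact congrArg Multiset.sum (Multiset.map_congr rfl fun u hu => adamsOp_line (isLine_lam (hs u hu)) k)

lemma adamsOp_mul_sum_lines {s t : Multiset K} (hs : ∀ u ∈ s, P.IsLine u) (ht : ∀ u ∈ t, P.IsLine u) (k : ℕ) :
    adamsOp (k + 1) (s.sum * t.sum) = adamsOp (k + 1) s.sum * adamsOp (k + 1) t.sum := by
  induction s using Multiset.induction_on with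
  | empty => simp [adamsOp_zero_arg]
  | cons a s ih =>
    have ha := hs a (Multiset.mem_cons_self a s)
    have ht' : ∀ v ∈ t.map (a * ·), P.IsLine v := fun v hv => by
      obtain ⟨b, hb, rfl⟩ := Multiset.mem_map.1 hv
      exact isLine_mul ha (ht b hb)
    rw [Multiset.sum_cons, add_mul, adamsOp_add, adamsOp_add, add_mul,
      ih (fun u hu => hs u (Multiset.mem_cons_of_mem hu))]
    congr 1
    have e : a * t.sum = (t.map (a * ·)).sum := by rw [Multiset.sum_map_mul_left, Multiset.map_id']
    rw [e, adamsOp_sum_lines ht', adamsOp_line (isLine_lam ha), adamsOp_sum_lines ht, Multiset.map_map,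
      ← Multiset.sum_map_mul_left]
    simp [mul_pow]

section ext

variable {K' K'' : Type u} [CommRing K'] [LambdaOps K'] [CommRing K''] [LambdaOps K''] {P' : PosStructure K'}
  {P'' : PosStructure K''} {f : K →+* K'} {g : K' →+* K''}

lemma isExtension_comp (hf : IsExtension P P' f) (hg : IsExtension P' P'' g) : IsExtension P P'' (g.comp f) where
  isLambdaHom i x := by simp only [RingHom.comp_apply, hf.isLambdaHom i x, hg.isLambdaHom i (f x)]
  injective := hg.injective.comp hf.injective
  aug_comp x := (hg.aug_comp (f x)).trans (hf.aug_comp x)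
  pos_subset e he := hg.pos_subset _ (hf.pos_subset e he)

lemma isLine_map (hf : IsExtension P P' f) {u : K} (hu : P.IsLine u) : P'.IsLine (f u) :=
  ⟨hf.pos_subset u hu.1, (hf.aug_comp u).trans hu.2⟩

end ext

variable (hK : HasSplitting K P)
include hK

lemma split1 {e : K} (he : e ∈ P.pos) :
    ∃ (L : PosLambdaRing.{u}) (φ : K →+* L.carrier), IsExtension P L.posStr φ ∧
      ∃ s : Multiset L.carrier, (∀ v ∈ s, L.posStr.IsLine v) ∧ s.sum = φ e := by
  obtain ⟨C, hC, h⟩ := hK
  obtain ⟨L, -, φ, hφ, hs⟩ := h _ hC e he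
  exact ⟨L, φ, hφ, hs⟩

lemma split1_splitting {e : K} (he : e ∈ P.pos) :
    ∃ (L : PosLambdaRing.{u}) (φ : K →+* L.carrier), HasSplitting L.carrier L.posStr ∧ IsExtension P L.posStr φ ∧
      ∃ s : Multiset L.carrier, (∀ v ∈ s, L.posStr.IsLine v) ∧ s.sum = φ e := by
  obtain ⟨C, hC, h⟩ := hK
  obtain ⟨L, hL, φ, hφ, hs⟩ := h _ hC e he
  exact ⟨L, φ, ⟨C, hL, h⟩, hφ, hs⟩

lemma split2 {e f : K} (he : e ∈ P.pos) (hf : f ∈ P.pos) :
    ∃ (L : PosLambdaRing.{u}) (φ : K →+* L.carrier), IsExtension P L.posStr φ ∧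
      ∃ s t : Multiset L.carrier, (∀ v ∈ s, L.posStr.IsLine v) ∧ (∀ v ∈ t, L.posStr.IsLine v) ∧
        s.sum = φ e ∧ t.sum = φ f := by
  obtain ⟨C, hC, h⟩ := hK
  obtain ⟨L, hL, φ, hφ, s, hs, hse⟩ := h _ hC e he
  obtain ⟨L', -, ψ, hψ, t, ht, hte⟩ := h L hL (φ f) (hφ.pos_subset f hf)
  refine ⟨L', ψ.comp φ, isExtension_comp hφ hψ, s.map ψ, t, fun v hv => ?_, ht, ?_, hte⟩
  · obtain ⟨a, ha, rfl⟩ := Multiset.mem_map.1 hv
    exact isLine_map hψ (hs a ha)
  · rw [← map_multiset_sum, hse]; rfl

omit hK in
lemma pos_induction {motive : K → Prop} (hsub : ∀ x y, motive x → motive y → motive (x - y))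
    (hpos : ∀ e ∈ P.pos, motive e) (x : K) : motive x := by
  obtain ⟨e, f, he, hf, rfl⟩ := P.exists_sub x
  exact hsub e f (hpos e he) (hpos f hf)

lemma adamsOp_mul_pos (k : ℕ) (x y : K) : adamsOp (k + 1) (x * y) = adamsOp (k + 1) x * adamsOp (k + 1) y := by
  induction x using pos_induction (P := P) with
  | hsub a b ha hb => rw [sub_mul, adamsOp_sub, ha, hb, adamsOp_sub, sub_mul]
  | hpos e he =>
    induction y using pos_induction (P := P) with
    | hsub a b ha hb => rw [mul_sub, adamsOp_sub, ha, hb, adamsOp_sub, mul_sub]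
    | hpos f hf =>
      obtain ⟨L, φ, hφ, s, t, hs, ht, hse, hte⟩ := split2 hK he hf
      apply hφ.injective
      rw [map_mul, map_adamsOp φ hφ.isLambdaHom, map_adamsOp φ hφ.isLambdaHom, map_adamsOp φ hφ.isLambdaHom,
        map_mul, ← hse, ← hte]
      exact adamsOp_mul_sum_lines hs ht k

lemma adamsOp_comp_pos (k k' : ℕ) (x : K) :
    adamsOp (k + 1) (adamsOp (k' + 1) x) = adamsOp ((k + 1) * (k' + 1)) x := by
  obtain ⟨m, hm⟩ := Nat.exists_eq_add_of_le' (Nat.mul_pos k.succ_pos k'.succ_pos)
  rw [hm]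
  induction x using pos_induction (P := P) with
  | hsub a b ha hb => rw [adamsOp_sub, adamsOp_sub, ha, hb, adamsOp_sub]
  | hpos e he =>
    obtain ⟨L, φ, hφ, s, hs, hse⟩ := split1 hK he
    apply hφ.injective
    rw [map_adamsOp φ hφ.isLambdaHom, map_adamsOp φ hφ.isLambdaHom, map_adamsOp φ hφ.isLambdaHom, ← hse,
      adamsOp_sum_lines hs, adamsOp_sum_lines hs, adamsOp_sum_lines (P := L.posStr) (s := s.map (· ^ (k' + 1)))
        (fun v hv => by
          obtain ⟨a, ha, rfl⟩ := Multiset.mem_map.1 hv
          exact isLine_pow (hs a ha) _), Multiset.map_map]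
    simp only [Function.comp_def, ← pow_mul, ← hm, mul_comm (k' + 1)]

/-- ψ^(k+1) as a ring homomorphism -/
def posAdams (k : ℕ) : K →+* K where
  toFun := adamsOp (k + 1)
  map_one' := by rw [adamsOp_line (lam_one_eq_zero P), one_pow]
  map_mul' := adamsOp_mul_pos hK k
  map_zero' := adamsOp_zero_arg k
  map_add' := adamsOp_add k

lemma aug_adamsOp (k : ℕ) (x : K) : P.aug (adamsOp (k + 1) x) = P.aug x := by
  induction x using pos_induction (P := P) with
  | hsub a b ha hb => rw [adamsOp_sub, map_sub, map_sub, ha, hb]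
  | hpos e he =>
    obtain ⟨L, φ, hφ, s, hs, hse⟩ := split1 hK he
    rw [← hφ.aug_comp, ← hφ.aug_comp e, map_adamsOp φ hφ.isLambdaHom, ← hse, adamsOp_sum_lines hs,
      aug_sum_lines (P := L.posStr) (fun v hv => by
        obtain ⟨a, ha, rfl⟩ := Multiset.mem_map.1 hv
        exact isLine_pow (hs a ha) _), aug_sum_lines hs, Multiset.card_map]

omit hK in
lemma esymm_replicate_one {R : Type*} [CommRing R] (n i : ℕ) :
    (Multiset.replicate n (1 : R)).esymm i = (n.choose i : R) := by
  rw [Multiset.esymm, Multiset.map_congr rfl (g := fun _ => (1 : R)) fun t ht => by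
    rw [Multiset.mem_powersetCard] at ht
    exact Multiset.prod_eq_one fun a ha => Multiset.eq_of_mem_replicate (Multiset.mem_of_le ht.1 ha)]
  simp

omit hK in
lemma card_eq_toNat_aug {L : PosLambdaRing.{u}} {φ : K →+* L.carrier} (hφ : IsExtension P L.posStr φ)
    {e : K} {s : Multiset L.carrier} (hs : ∀ v ∈ s, L.posStr.IsLine v) (hse : s.sum = φ e) :
    Multiset.card s = (P.aug e).toNat := by
  have := aug_sum_lines hs
  rw [hse, hφ.aug_comp] at this
  omega

lemma aug_lam {e : K} (he : e ∈ P.pos) (i : ℕ) :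
    P.aug (LambdaOps.lam i e) = ((P.aug e).toNat.choose i : ℤ) := by
  obtain ⟨L, φ, hφ, s, hs, hse⟩ := split1 hK he
  have h := congrFun (lamSeq_sum_lines s fun v hv => isLine_lam (hs v hv)) i
  rw [← hφ.aug_comp, hφ.isLambdaHom, ← hse, h, Groth.Agent.Lead.Lam.es, map_esymm',
    Multiset.map_congr rfl (fun u hu => (hs u hu).2), Multiset.map_const', esymm_replicate_one,
    card_eq_toNat_aug hφ hs hse]

omit hK in
/-- complementary elementary symmetric functions -/
lemma esymm_compl {R : Type*} [CommRing R] (w : R → R) (s : Multiset R) :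
    (∀ a ∈ s, w a * a = 1) → ∀ i j, i + j = Multiset.card s → s.esymm i = (s.map w).esymm j * s.prod := by
  induction s using Multiset.induction_on with
  | empty =>
    intro _ i j h
    rw [Multiset.card_zero] at h
    obtain ⟨rfl, rfl⟩ : i = 0 ∧ j = 0 := by omega
    simp [Multiset.esymm]
  | cons a s ih =>
    intro hw i j h
    rw [Multiset.card_cons] at h
    have ha := hw a (Multiset.mem_cons_self a s)
    have ih' := ih (fun b hb => hw b (Multiset.mem_cons_of_mem hb))
    have hbig : ∀ (t : Multiset R), t.esymm (Multiset.card t + 1) = 0 := fun t => by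
      rw [Multiset.esymm, Multiset.powersetCard_card_add t Nat.one_pos]; simp
    rw [Multiset.map_cons, Multiset.prod_cons]
    cases i with
    | zero =>
      obtain rfl : j = Multiset.card s + 1 := by omega
      have h2 := ih' 0 (Multiset.card s) (by omega)
      have e0 : (a ::ₘ s).esymm 0 = 1 := by simp [Multiset.esymm]
      have e1 := Groth.Agent.Lead.Lam.es_cons_succ (w a) (s.map w) (Multiset.card s)
      simp only [Groth.Agent.Lead.Lam.es] at e1
      rw [e0, e1, ← Multiset.card_map w s, hbig, Multiset.card_map]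
      rw [show s.esymm 0 = 1 by simp [Multiset.esymm]] at h2
      linear_combination h2 - ((s.map w).esymm (Multiset.card s) * s.prod) * ha
    | succ i =>
      have e1 := Groth.Agent.Lead.Lam.es_cons_succ a s i
      simp only [Groth.Agent.Lead.Lam.es] at e1
      rw [e1]
      cases j with
      | zero =>
        obtain rfl : i = Multiset.card s := by omega
        rw [hbig, ih' (Multiset.card s) 0 (by omega),
          show ((w a ::ₘ s.map w)).esymm 0 = 1 by simp [Multiset.esymm],
          show (s.map w).esymm 0 = 1 by simp [Multiset.esymm]]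
        ring
      | succ j =>
        have e2 := Groth.Agent.Lead.Lam.es_cons_succ (w a) (s.map w) j
        simp only [Groth.Agent.Lead.Lam.es] at e2
        rw [e2, ih' (i + 1) j (by omega), ih' i (j + 1) (by omega)]
        linear_combination -((s.map w).esymm j * s.prod) * ha

omit hK in
lemma lam_inv_eq {inv : K → K} (hS : HasInvSplitting P inv) {e : K} (he : e ∈ P.pos) :
    (∀ i, (P.aug e).toNat < i → LambdaOps.lam i (inv e) = 0) ∧
    ∀ i, i ≤ (P.aug e).toNat →
      LambdaOps.lam i e = LambdaOps.lam ((P.aug e).toNat - i) (inv e) * LambdaOps.lam (P.aug e).toNat e := by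
  obtain ⟨L, inv', φ, hφ, hI, hcomm, s, hs, hse⟩ := hS e he
  have hcard := card_eq_toNat_aug hφ hs hse
  let invHom : L.carrier →+ L.carrier := AddMonoidHom.mk' inv' hI.map_add
  have hinv : φ (inv e) = (s.map inv').sum := by
    rw [hcomm, ← hse]; exact map_multiset_sum invHom s
  have hlines : ∀ v ∈ s.map inv', L.posStr.IsLine v := fun v hv => by
    obtain ⟨a, ha, rfl⟩ := Multiset.mem_map.1 hv
    exact hI.inv_line a (hs a ha)
  have hl1 : ∀ i, φ (LambdaOps.lam i (inv e)) = (s.map inv').esymm i := fun i => by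
    rw [hφ.isLambdaHom, hinv]
    exact congrFun (lamSeq_sum_lines (s.map inv') fun v hv => isLine_lam (hlines v hv)) i
  have hl2 : ∀ i, φ (LambdaOps.lam i e) = s.esymm i := fun i => by
    rw [hφ.isLambdaHom, ← hse]
    exact congrFun (lamSeq_sum_lines s fun v hv => isLine_lam (hs v hv)) i
  refine ⟨fun i hi => hφ.injective ?_, fun i hi => hφ.injective ?_⟩
  · rw [map_zero, hl1, Multiset.esymm, Multiset.powersetCard_eq_empty _ (by rw [Multiset.card_map, hcard]; exact hi)]
    simp
  · rw [map_mul, hl1, hl2, hl2, ← hcard,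
      show s.esymm (Multiset.card s) = s.prod from by
        simp [Multiset.esymm, Multiset.powersetCard_self]]
    exact esymm_compl inv' s (fun a ha => hI.inv_mul_self a (hs a ha)) i _ (by omega)

/-- the key congruence on the generators -/
lemma adams_gamma_pos {e : K} (he : e ∈ P.pos) (k r : ℕ) :
    adamsOp (k + 1) (gamma (r + 1) (e - ((P.aug e).toNat : K)))
      - ((k + 1 : ℕ) : K) ^ (r + 1) * gamma (r + 1) (e - ((P.aug e).toNat : K))
      ∈ gammaFil P.aug (r + 2) := by
  classical
  set z := e - ((P.aug e).toNat : K) with hz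
  have hz0 : P.aug z = 0 := by
    have := P.aug_pos e he
    rw [hz, map_sub, map_natCast]
    omega
  obtain ⟨q, -, hq⟩ := exists_adams_rep (A := W 0) isSpecial_u 0 0 k (MvPolynomial.X (Sum.inl r))
  set q₁ : V := q - MvPolynomial.C (((k + 1 : ℕ) : ℤ) ^ (r + 1)) * MvPolynomial.X (Sum.inl r) with hq₁
  have hw : ∀ d ∈ q₁.support, r + 2 ≤ Finsupp.weight wV d := by
    refine weights_gen fun N => ?_
    have h : evV (xN N) (yN N) q = adamsOp (k + 1) (evV (xN N) (yN N) (MvPolynomial.X (Sum.inl r))) :=
      hq (N, Kind.gen)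
    rw [evV_inl] at h
    rw [hq₁, map_sub, map_mul, evV_C, evV_inl, h]
    simpa using adamsOp_sub_pow_mul_mem k (r + 1) _ (gamma_mem_m (xN_mem N) (r + 1))
  have hval : evV z 0 q = adamsOp (k + 1) (gamma (r + 1) z) := by
    obtain ⟨L, φ, hL, hφ, s, hs, hse⟩ := split1_splitting hK he
    obtain ⟨l, rfl⟩ : ∃ l : List L.carrier, (l : Multiset L.carrier) = s := ⟨s.toList, s.coe_toList⟩
    have hcard : l.length = (P.aug e).toNat := by simpa using card_eq_toNat_aug hφ hs hse
    set v : Fin l.length → L.carrier := l.get with hv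
    have hmap : (univ : Finset (Fin l.length)).val.map v = (l : Multiset L.carrier) := by
      rw [Fin.univ_val_map, hv, List.ofFn_get]
    have hvline : ∀ i, L.posStr.IsLine (v i) := fun i =>
      hs _ (hmap ▸ Multiset.mem_map_of_mem v (Finset.mem_univ i))
    let θ : W l.length →+* L.carrier :=
      MvPolynomial.eval₂Hom (Int.castRingHom _) (Sum.elim (fun i => v i - 1) (fun _ => 0))
    have hcomm : θ.comp (uAdams k) = (posAdams hL k).comp θ := by
      apply MvPolynomial.ringHom_ext
      · intro c; simp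
      · intro i
        simp only [RingHom.comp_apply, uAdams_X, map_sub, map_pow, map_add, map_one, θ,
          MvPolynomial.eval₂Hom_X']
        cases i with
        | inl i =>
          change (v i - 1 + 1) ^ (k + 1) - 1 = adamsOp (k + 1) (v i - 1)
          rw [adamsOp_sub, adamsOp_line (isLine_lam (hvline i)), adamsOp_line (lam_one_eq_zero L.posStr),
            one_pow, sub_add_cancel]
        | inr i =>
          change (0 + 1 : L.carrier) ^ (k + 1) - 1 = adamsOp (k + 1) 0
          simp [adamsOp_zero_arg]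
    have hγ : ∀ j, θ (gamma (j + 1) (xN l.length)) = gamma (j + 1) (φ z) := by
      intro j
      rw [xN, gamma_sum_vars, map_esymm', Multiset.map_map]
      have h := congrFun (gammaSeq_sum_line_sub_one (lam_one_eq_zero L.posStr) (l : Multiset L.carrier)
        (fun u hu => isLine_lam (hs u hu))) (j + 1)
      rw [hz, map_sub, map_natCast, ← hse, ← hcard]
      simp only [Multiset.coe_card] at h
      rw [h, Groth.Agent.Lead.Lam.es, ← hmap, Multiset.map_map]
      congr 1
      exact Multiset.map_congr rfl fun i _ => by simp [θ]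
    have hev : θ.comp (evV (xN l.length) 0).toRingHom = (evV (φ z) 0).toRingHom := by
      apply MvPolynomial.ringHom_ext
      · intro c; simp
      · intro i
        cases i with
        | inl i => simpa [evV_inl] using hγ i
        | inr i => simp [evV_inr, gamma_zero_eq]
    have h0 : evV (xN l.length) 0 q
        = adamsOp (k + 1) (evV (xN l.length) 0 (MvPolynomial.X (Sum.inl r))) := hq (l.length, Kind.xOnly)
    rw [evV_inl] at h0
    apply hφ.injective
    rw [map_evV φ hφ.isLambdaHom, map_zero, map_adamsOp φ hφ.isLambdaHom, map_gamma φ hφ.isLambdaHom, ← hγ r]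
    have e1 := DFunLike.congr_fun hev q
    have e2 := DFunLike.congr_fun hcomm (gamma (r + 1) (xN l.length))
    simp only [RingHom.comp_apply, AlgHom.toRingHom_eq_coe, RingHom.coe_coe] at e1
    rw [← e1, h0]
    exact e2
  have hmem : evV z 0 q₁ ∈ gammaFil P.aug (r + 2) :=
    evV_mem (F := gammaGFil P.aug) (good_gammaFil P.aug hz0) GFil.good_zero hw
  rw [hq₁, map_sub, map_mul, evV_C, evV_inl, hval] at hmem
  simpa using hmem

/-- ψ^(k+1) is multiplication by `(k+1)^n` on the `n`-th graded piece of the γ-filtration -/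
theorem adams_sub_pow_mem (k n : ℕ) {x : K} (hx : x ∈ gammaFil P.aug n) :
    adamsOp (k + 1) x - ((k + 1 : ℕ) : K) ^ n * x ∈ gammaFil P.aug (n + 1) := by
  set ψ := posAdams hK k
  have hψ : ∀ c, ψ c - c ∈ gammaFil P.aug 1 := fun c => mem_gammaFil_one _ (by
    change P.aug (adamsOp (k + 1) c - c) = 0
    rw [map_sub, aug_adamsOp hK, sub_self])
  have hstep : ∀ m a, a ∈ gammaFil P.aug m → ψ a - ((k + 1 : ℕ) : K) ^ m * a ∈ gammaFil P.aug (m + 1) →
      ψ a ∈ gammaFil P.aug m := fun m a h1 h2 => by
    have := add_mem (gammaFil_anti _ (Nat.le_succ m) h2) (Ideal.mul_mem_left _ (((k + 1 : ℕ) : K) ^ m) h1)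
    simpa using this
  let C : GFil K :=
    { G := fun m =>
        { carrier := {a | a ∈ gammaFil P.aug m ∧ ψ a - ((k + 1 : ℕ) : K) ^ m * a ∈ gammaFil P.aug (m + 1)}
          zero_mem' := by simp
          add_mem' := fun {a b} ha hb => ⟨add_mem ha.1 hb.1, by
            have := add_mem ha.2 hb.2
            convert this using 1
            rw [map_add]; ring⟩
          smul_mem' := fun c a ha => ⟨Ideal.mul_mem_left _ c ha.1, by
            have := add_mem
              (gammaFil_anti _ (by omega : m + 1 ≤ 1 + m) (gammaFil_mul_mem _ (hψ c) (hstep m a ha.1 ha.2)))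
              (Ideal.mul_mem_left _ c ha.2)
            convert this using 1
            rw [smul_eq_mul, map_mul]; ring⟩ }
      zero_eq := by
        refine eq_top_iff.2 fun a _ => ⟨by rw [gammaFil_zero]; trivial, ?_⟩
        simpa using hψ a
      anti := fun {m m'} h a ha => by
        rcases Nat.eq_or_lt_of_le h with rfl | hlt
        · exact ha
        · exact ⟨gammaFil_anti _ h ha.1, sub_mem (gammaFil_anti _ hlt (hstep m' a ha.1 ha.2))
            (Ideal.mul_mem_left _ _ (gammaFil_anti _ hlt ha.1))⟩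
      mul_mem := fun {m m' a b} ha hb => ⟨gammaFil_mul_mem _ ha.1 hb.1, by
        have h1 := gammaFil_anti P.aug (by omega : m + m' + 1 ≤ m + 1 + m')
          (gammaFil_mul_mem _ ha.2 (hstep m' b hb.1 hb.2))
        have h2 := gammaFil_anti P.aug (by omega : m + m' + 1 ≤ m + (m' + 1)) (gammaFil_mul_mem _ ha.1 hb.2)
        have := add_mem h1 (Ideal.mul_mem_left _ (((k + 1 : ℕ) : K) ^ m) h2)
        convert this using 1
        rw [map_mul, pow_add]; ring⟩ }
  have hpos : ∀ e ∈ P.pos, C.Good (e - ((P.aug e).toNat : K)) := by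
    intro e he i
    cases i with
    | zero => exact C.mem_zero _
    | succ i =>
      refine ⟨gamma_mem_gammaFil _ ?_ _, adams_gamma_pos hK he k i⟩
      have := P.aug_pos e he
      rw [map_sub, map_natCast]
      omega
  have hgood : ∀ z, P.aug z = 0 → C.Good z := by
    intro z hz
    obtain ⟨e, f, he, hf, rfl⟩ := P.exists_sub z
    rw [map_sub, sub_eq_zero] at hz
    have := (hpos e he).sub (hpos f hf)
    rwa [hz, sub_sub_sub_cancel_right] at this
  exact (gammaFil_le P.aug C hgood n hx).2

end

end Groth.Agent.LamG
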