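import Groth.Agent.LamG.Positive
import Mathlib.LinearAlgebra.Eigenspace.Basic
import Mathlib.RingTheory.TensorProduct.Basic
import Mathlib.Algebra.Algebra.Rat

/-! The rational γ-filtration and the Adams eigenspaces. -/

namespace Groth.Agent.LamG

open Finset LambdaRing
open scoped TensorProduct

universe u

variable {K : Type u} [CommRing K] [LambdaOps K] {P : PosStructure K}

/-- the ℚ-span of the image of the `n`-th term of the γ-filtration -/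
noncomputable def qFil (P : PosStructure K) (n : ℕ) : Submodule ℚ (ℚ ⊗[ℤ] K) :=
  Submodule.span ℚ ((fun x : K => (1 : ℚ) ⊗ₜ[ℤ] x) '' (gammaFiltration P n : Set K))

omit [LambdaOps K] in
lemma tmul_eq_smul_one_tmul (q : ℚ) (x : K) : q ⊗ₜ[ℤ] x = q • ((1 : ℚ) ⊗ₜ[ℤ] x) := by
  rw [TensorProduct.smul_tmul', smul_eq_mul, mul_one]

lemma qFil_zero : qFil P 0 = ⊤ := by
  refine eq_top_iff.2 fun v _ => ?_
  induction v using TensorProduct.induction_on with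
  | zero => exact zero_mem _
  | tmul q x =>
    rw [tmul_eq_smul_one_tmul]
    exact Submodule.smul_mem _ _ (Submodule.subset_span ⟨x, by
      rw [SetLike.mem_coe, mem_gammaFiltration_iff, gammaFil_zero]; trivial, rfl⟩)
  | add a b ha hb => exact add_mem (ha trivial) (hb trivial)

lemma qFil_anti {m n : ℕ} (h : m ≤ n) : qFil P n ≤ qFil P m :=
  Submodule.span_mono (Set.image_mono fun _ hx =>
    (mem_gammaFiltration_iff P m _).2 (gammaFil_anti _ h ((mem_gammaFiltration_iff P n _).1 hx)))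

lemma qFil_eq_bot {d : ℕ} (hd : gammaFiltration P (d + 1) = ⊥) {n : ℕ} (hn : d + 1 ≤ n) : qFil P n = ⊥ := by
  refine le_bot_iff.1 ((qFil_anti hn).trans ?_)
  rw [qFil, hd]
  simp

variable {j : ℕ} {Ψ : ℚ ⊗[ℤ] K →ₗ[ℚ] ℚ ⊗[ℤ] K}
  (hΨ : ∀ x : K, Ψ (1 ⊗ₜ[ℤ] x) = 1 ⊗ₜ[ℤ] adams P j x) (hK : HasSplitting K P)
include hΨ hK

lemma psi_sub_pow_mem (hj : 1 ≤ j) {n : ℕ} {v : ℚ ⊗[ℤ] K} (hv : v ∈ qFil P n) :
    Ψ v - (j : ℚ) ^ n • v ∈ qFil P (n + 1) := by
  induction hv using Submodule.span_induction with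
  | mem y hy =>
    obtain ⟨x, hx, rfl⟩ := hy
    obtain ⟨k, rfl⟩ := Nat.exists_eq_add_of_le' hj
    rw [hΨ, adams_succ_eq]
    refine Submodule.subset_span ⟨adamsOp (k + 1) x - ((k + 1 : ℕ) : K) ^ n * x, ?_, ?_⟩
    · exact (mem_gammaFiltration_iff P _ _).2 (adams_sub_pow_mem hK k n ((mem_gammaFiltration_iff P n x).1 hx))
    · change (1 : ℚ) ⊗ₜ[ℤ] (_ - _) = _
      rw [← Nat.cast_pow, ← nsmul_eq_mul, TensorProduct.tmul_sub, ← Nat.cast_pow, Nat.cast_smul_eq_nsmul]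
      congr 1
      exact TensorProduct.tmul_smul _ _ _
  | zero => simp
  | add a b _ _ ha hb =>
    have := add_mem ha hb
    rwa [show Ψ a - (j : ℚ) ^ n • a + (Ψ b - (j : ℚ) ^ n • b) = Ψ (a + b) - (j : ℚ) ^ n • (a + b) by
      rw [map_add, smul_add]; abel] at this
  | smul c a _ ha =>
    have := Submodule.smul_mem _ c ha
    rwa [smul_sub, ← map_smul, smul_comm c] at this

omit hΨ hK in
lemma pow_sub_pow_ne_zero (hj : 2 ≤ j) {m n : ℕ} (h : m ≠ n) : (j : ℚ) ^ m - (j : ℚ) ^ n ≠ 0 := by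
  intro e
  have e' : j ^ m = j ^ n := by exact_mod_cast sub_eq_zero.1 e
  exact h (Nat.pow_right_injective hj e')

lemma eigen_mem_qFil (hj : 2 ≤ j) {m : ℕ} {v : ℚ ⊗[ℤ] K}
    (hv : v ∈ Module.End.eigenspace Ψ ((j : ℚ) ^ m)) : ∀ l ≤ m, v ∈ qFil P l := by
  rw [Module.End.mem_eigenspace_iff] at hv
  intro l
  induction l with
  | zero => intro _; rw [qFil_zero]; trivial
  | succ l ih =>
    intro hl
    have h := psi_sub_pow_mem hΨ hK (by omega) (ih (by omega))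
    rw [hv, ← sub_smul] at h
    have := Submodule.smul_mem _ ((j : ℚ) ^ m - (j : ℚ) ^ l)⁻¹ h
    rwa [smul_smul, inv_mul_cancel₀ (pow_sub_pow_ne_zero hj (by omega)), one_smul] at this

variable {d : ℕ} (hd : gammaFiltration P (d + 1) = ⊥)
include hd

lemma eigen_inf_qFil (hj : 2 ≤ j) (m : ℕ) :
    Module.End.eigenspace Ψ ((j : ℚ) ^ m) ⊓ qFil P (m + 1) = ⊥ := by
  refine (Submodule.eq_bot_iff _).2 fun v hv => ?_
  obtain ⟨hv, hv'⟩ := Submodule.mem_inf.1 hv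
  rw [Module.End.mem_eigenspace_iff] at hv
  have h : ∀ l, v ∈ qFil P (m + 1 + l) := by
    intro l
    induction l with
    | zero => exact hv'
    | succ l ih =>
      have h := psi_sub_pow_mem hΨ hK (by omega) ih
      rw [hv, ← sub_smul] at h
      have := Submodule.smul_mem _ ((j : ℚ) ^ m - (j : ℚ) ^ (m + 1 + l))⁻¹ h
      rwa [smul_smul, inv_mul_cancel₀ (pow_sub_pow_ne_zero hj (by omega)), one_smul] at this
  have := h (d + 1)
  rwa [qFil_eq_bot hd (by omega), Submodule.mem_bot] at this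

lemma qFil_le_range (hj : 2 ≤ j) (m t : ℕ) : ∀ n, m < n → d + 1 ≤ n + t →
    qFil P n ≤ (qFil P n).map (Ψ - (j : ℚ) ^ m • (LinearMap.id : ℚ ⊗[ℤ] K →ₗ[ℚ] ℚ ⊗[ℤ] K)) := by
  induction t with
  | zero => intro n _ h; rw [qFil_eq_bot hd (by omega)]; exact bot_le
  | succ t ih =>
    intro n hmn h w hw
    set u0 := ((j : ℚ) ^ n - (j : ℚ) ^ m)⁻¹ • w with hu0
    have h1 : (Ψ - (j : ℚ) ^ m • (LinearMap.id : ℚ ⊗[ℤ] K →ₗ[ℚ] ℚ ⊗[ℤ] K)) u0 - w ∈ qFil P (n + 1) := by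
      have hu : u0 ∈ qFil P n := Submodule.smul_mem _ _ hw
      have h2 := psi_sub_pow_mem hΨ hK (by omega) hu
      have e : (Ψ - (j : ℚ) ^ m • (LinearMap.id : ℚ ⊗[ℤ] K →ₗ[ℚ] ℚ ⊗[ℤ] K)) u0 - w = Ψ u0 - (j : ℚ) ^ n • u0 := by
        have : w = ((j : ℚ) ^ n - (j : ℚ) ^ m) • u0 := by
          rw [hu0, smul_smul, mul_inv_cancel₀ (pow_sub_pow_ne_zero hj (by omega)), one_smul]
        rw [LinearMap.sub_apply, LinearMap.smul_apply, LinearMap.id_apply]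
        nth_rewrite 1 [this]
        rw [sub_smul]; abel
      rwa [e]
    obtain ⟨u1, hu1, hu1e⟩ := ih (n + 1) (by omega) (by omega) h1
    exact ⟨u0 - u1, sub_mem (Submodule.smul_mem _ _ hw) (qFil_anti (Nat.le_succ n) hu1), by
      rw [map_sub, hu1e, sub_sub_cancel]⟩

lemma eigen_sup_qFil (hj : 2 ≤ j) (m : ℕ) :
    Module.End.eigenspace Ψ ((j : ℚ) ^ m) ⊔ qFil P (m + 1) = qFil P m := by
  refine le_antisymm (sup_le (fun v hv => eigen_mem_qFil hΨ hK hj hv m le_rfl) (qFil_anti (Nat.le_succ m)))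
    fun v hv => ?_
  obtain ⟨w, hw, hwe⟩ := qFil_le_range hΨ hK hd hj m (d + 1) (m + 1) (Nat.lt_succ_self m) (by omega)
    (psi_sub_pow_mem hΨ hK (by omega) hv)
  refine Submodule.mem_sup.2 ⟨v - w, ?_, w, hw, sub_add_cancel v w⟩
  rw [Module.End.mem_eigenspace_iff, map_sub, smul_sub]
  simp only [LinearMap.sub_apply, LinearMap.smul_apply, LinearMap.id_apply] at hwe
  rw [sub_eq_sub_iff_sub_eq_sub]
  exact hwe.symm

lemma eigen_iSup (hj : 2 ≤ j) : ⨆ m ∈ range (d + 1), Module.End.eigenspace Ψ ((j : ℚ) ^ m) = ⊤ := by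
  have h : ∀ t n, d + 1 ≤ n + t → qFil P n ≤ ⨆ m ∈ range (d + 1), Module.End.eigenspace Ψ ((j : ℚ) ^ m) := by
    intro t
    induction t with
    | zero => intro n hn; rw [qFil_eq_bot hd (by omega)]; exact bot_le
    | succ t ih =>
      intro n hn
      by_cases hnd : n ≤ d
      · rw [← eigen_sup_qFil hΨ hK hd hj n]
        exact sup_le (le_iSup₂_of_le n (mem_range.2 (by omega)) le_rfl) (ih (n + 1) (by omega))
      · rw [qFil_eq_bot hd (by omega)]; exact bot_le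
  exact top_unique (qFil_zero.ge.trans (h (d + 1) 0 (by omega)))

lemma eigen_le {l : ℕ} {Φ : ℚ ⊗[ℤ] K →ₗ[ℚ] ℚ ⊗[ℤ] K} (hΦ : ∀ x : K, Φ (1 ⊗ₜ[ℤ] x) = 1 ⊗ₜ[ℤ] adams P l x)
    (hj : 2 ≤ j) (hl : 2 ≤ l) (m : ℕ) :
    Module.End.eigenspace Ψ ((j : ℚ) ^ m) ≤ Module.End.eigenspace Φ ((l : ℚ) ^ m) := by
  obtain ⟨a, rfl⟩ := Nat.exists_eq_add_of_le' (show 1 ≤ j by omega)
  obtain ⟨b, rfl⟩ := Nat.exists_eq_add_of_le' (show 1 ≤ l by omega)
  have hcomm : ∀ v, Ψ (Φ v) = Φ (Ψ v) := by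
    intro v
    induction v using TensorProduct.induction_on with
    | zero => simp
    | tmul q x =>
      rw [tmul_eq_smul_one_tmul, map_smul, map_smul, map_smul, map_smul, hΦ, hΨ, hΨ, hΦ, adams_succ_eq,
        adams_succ_eq, adams_succ_eq, adams_succ_eq, adamsOp_comp_pos hK, adamsOp_comp_pos hK, mul_comm]
    | add x y hx hy => simp only [map_add, hx, hy]
  intro v hv
  have hv0 := hv
  rw [Module.End.mem_eigenspace_iff] at hv ⊢
  have hw : Φ v - ((b + 1 : ℕ) : ℚ) ^ m • v ∈ qFil P (m + 1) :=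
    psi_sub_pow_mem hΦ hK (by omega) (eigen_mem_qFil hΨ hK hj hv0 m le_rfl)
  have hw' : Φ v - ((b + 1 : ℕ) : ℚ) ^ m • v ∈ Module.End.eigenspace Ψ (((a + 1 : ℕ) : ℚ) ^ m) := by
    rw [Module.End.mem_eigenspace_iff, map_sub, map_smul, hcomm, hv, map_smul, smul_sub, smul_comm]
  have := Submodule.mem_inf.2 ⟨hw', hw⟩
  rw [eigen_inf_qFil hΨ hK hd hj m, Submodule.mem_bot] at this
  exact sub_eq_zero.1 this

end Groth.Agent.LamG
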