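import Groth.Agent.LamG.Universal

/-! Universal polynomials in the γ-operations and transfer from the universal ring. -/

namespace Groth.Agent.LamG

open Finset LambdaRing MvPolynomial
open Groth.Agent.Lead.Lam (W U esH esW esW_injective esH_injective killOut coeff_killOut map_nw
  map_esymm' nw rec_split adamsOp_eq exists_mulPoly exists_compPoly)

noncomputable section

/-! ### Products of λ-rings -/

section products

instance piLam {ι : Type*} {B : ι → Type*} [∀ i, CommRing (B i)] [∀ i, LambdaOps (B i)] :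
    LambdaOps (∀ i, B i) where
  lam k x i := LambdaOps.lam k (x i)
  lam_zero x := funext fun i => LambdaOps.lam_zero _
  lam_one x := funext fun i => LambdaOps.lam_one _
  lam_add k x y := funext fun i => by simp [LambdaOps.lam_add]

instance prodLam {A B : Type*} [CommRing A] [CommRing B] [LambdaOps A] [LambdaOps B] :
    LambdaOps (A × B) where
  lam k x := (LambdaOps.lam k x.1, LambdaOps.lam k x.2)
  lam_zero x := by simp [LambdaOps.lam_zero, Prod.one_eq_mk]
  lam_one x := by simp [LambdaOps.lam_one]
  lam_add k x y := by ext <;> simp [LambdaOps.lam_add, Prod.fst_sum, Prod.snd_sum]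

lemma map_aeval_int {A B σ : Type*} [CommRing A] [CommRing B] (f : A →+* B) (v : σ → A)
    (p : MvPolynomial σ ℤ) : f (aeval v p) = aeval (fun s => f (v s)) p :=
  comp_aeval_apply (f := v) f.toIntAlgHom p

lemma isSpecial_pi {ι : Type*} {B : ι → Type*} [∀ i, CommRing (B i)] [∀ i, LambdaOps (B i)]
    (h : ∀ i, IsSpecial (B i)) : IsSpecial (∀ i, B i) where
  lam_one_eq_zero n hn := funext fun i => (h i).lam_one_eq_zero n hn
  lam_mul n P hP x y := funext fun i => by
    refine ((h i).lam_mul n P hP (x i) (y i)).trans ?_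
    refine Eq.trans ?_ (map_aeval_int (Pi.evalRingHom B i) _ P).symm
    congr 2
    funext s; cases s <;> rfl
  lam_lam a b Q hQ x := funext fun i => by
    refine ((h i).lam_lam a b Q hQ (x i)).trans ?_
    refine Eq.trans ?_ (map_aeval_int (Pi.evalRingHom B i) _ Q).symm
    congr 2

lemma isSpecial_prod {A B : Type*} [CommRing A] [CommRing B] [LambdaOps A] [LambdaOps B]
    (hA : IsSpecial A) (hB : IsSpecial B) : IsSpecial (A × B) where
  lam_one_eq_zero n hn := Prod.ext (hA.lam_one_eq_zero n hn) (hB.lam_one_eq_zero n hn)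
  lam_mul n P hP x y := Prod.ext
    ((hA.lam_mul n P hP x.1 y.1).trans (by
      rw [← RingHom.coe_fst (S := B), map_aeval_int]
      congr 2; funext s; cases s <;> rfl))
    ((hB.lam_mul n P hP x.2 y.2).trans (by
      rw [← RingHom.coe_snd (R := A), map_aeval_int]
      congr 2; funext s; cases s <;> rfl))
  lam_lam a b Q hQ x := Prod.ext
    ((hA.lam_lam a b Q hQ x.1).trans (by rw [← RingHom.coe_fst (S := B), map_aeval_int]; rfl))
    ((hB.lam_lam a b Q hQ x.2).trans (by rw [← RingHom.coe_snd (R := A), map_aeval_int]; rfl))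

end products

/-! ### Polynomials in two families of γ-operations -/

/-- polynomials in `γ^{j+1} x` and `γ^{j+1} y` -/
abbrev V := MvPolynomial (ℕ ⊕ ℕ) ℤ

section ev

variable {K L : Type*} [CommRing K] [LambdaOps K] [CommRing L] [LambdaOps L]

/-- the values of the variables -/
def gv (x y : K) : ℕ ⊕ ℕ → K := Sum.elim (fun j => gamma (j + 1) x) (fun j => gamma (j + 1) y)

/-- evaluation -/
def evV (x y : K) : V →ₐ[ℤ] K := aeval (gv x y)

lemma evV_inl (x y : K) (j : ℕ) : evV x y (X (Sum.inl j)) = gamma (j + 1) x := by simp [evV, gv]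

lemma evV_inr (x y : K) (j : ℕ) : evV x y (X (Sum.inr j)) = gamma (j + 1) y := by simp [evV, gv]

lemma map_evV (f : K →+* L) (hf : ∀ i z, f (LambdaOps.lam i z) = LambdaOps.lam i (f z)) (x y : K) (q : V) :
    f (evV x y q) = evV (f x) (f y) q := by
  rw [evV, map_aeval_int, evV]
  congr 2
  funext s; cases s <;> simp [gv, map_gamma f hf]

lemma map_adamsOp (f : K →+* L) (hf : ∀ i z, f (LambdaOps.lam i z) = LambdaOps.lam i (f z)) (k : ℕ) (x : K) :
    f (adamsOp (k + 1) x) = adamsOp (k + 1) (f x) := by
  rw [adamsOp_eq, map_nw f (LambdaOps.lam_zero x), adamsOp_eq]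
  simp only [hf]

omit [LambdaOps K] in
lemma aeval_mem_subring {τ : Type*} (S : Subring K) (v : τ → K) (hv : ∀ s, v s ∈ S) (p : MvPolynomial τ ℤ) :
    aeval v p ∈ S := by
  induction p using MvPolynomial.induction_on with
  | C a => simp
  | add p q hp hq => rw [map_add]; exact add_mem hp hq
  | mul_X p s hp => rw [map_mul, aeval_X]; exact mul_mem hp (hv s)

lemma lam_mem_of_gamma_mem (S : Subring K) (x : K) (hx : ∀ j, gamma (j + 1) x ∈ S) (k : ℕ) :
    LambdaOps.lam k x ∈ S := by
  induction k using Nat.strong_induction_on with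
  | _ k ih =>
    cases k with
    | zero => rw [LambdaOps.lam_zero]; exact one_mem S
    | succ k =>
      have h := gamma_succ k x
      rw [sum_range_succ, Nat.choose_self, Nat.cast_one, one_mul] at h
      rw [show LambdaOps.lam (k + 1) x
        = gamma (k + 1) x - ∑ j ∈ range k, (k.choose j : K) * LambdaOps.lam (j + 1) x by rw [h]; ring]
      exact sub_mem (hx k) (sum_mem fun j hj => mul_mem (natCast_mem S _) (ih (j + 1) (by
        have := mem_range.1 hj; omega)))

variable (hK : IsSpecial K)
include hK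

theorem lam_mem_range (x y : K) (p : V) (n : ℕ) :
    LambdaOps.lam n (evV x y p) ∈ (evV x y).toRingHom.range := by
  set S := (evV x y).toRingHom.range with hS
  have hev : ∀ q, evV x y q ∈ S := fun q => ⟨q, rfl⟩
  let T : Subring K :=
    { carrier := {a | ∀ m, LambdaOps.lam m a ∈ S}
      zero_mem' := fun m => by cases m <;> simp [LambdaOps.lam_zero, lam_zero_eq]
      one_mem' := fun m => by
        rcases m with _ | _ | m <;> simp [LambdaOps.lam_zero, LambdaOps.lam_one, hK.lam_one_eq_zero]
      add_mem' := fun {a b} ha hb m => by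
        rw [LambdaOps.lam_add]; exact sum_mem fun i _ => mul_mem (ha i) (hb (m - i))
      neg_mem' := fun {a} ha m => by
        induction m using Nat.strong_induction_on with
        | _ m ih =>
          cases m with
          | zero => rw [LambdaOps.lam_zero]; exact one_mem S
          | succ m =>
            rw [lam_neg_succ]
            exact neg_mem (sum_mem fun i _ => mul_mem (ha (i + 1)) (ih (m - i) (by omega)))
      mul_mem' := fun {a b} ha hb m => by
        obtain ⟨P, hP⟩ := exists_mulPoly m
        rw [hK.lam_mul m P hP a b]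
        exact aeval_mem_subring S _ (fun s => by cases s <;> simp [ha _, hb _]) P }
  have hgen : ∀ z, (∀ j, gamma (j + 1) z ∈ S) → ∀ j, gamma (j + 1) z ∈ T := by
    intro z hz j m
    obtain ⟨Q, hQ⟩ := exists_compPoly (j + 1) m
    rw [gamma_eq_lam hK.lam_one_eq_zero, hK.lam_lam (j + 1) m Q hQ]
    refine aeval_mem_subring S _ (fun s => ?_) Q
    rw [lam_add_natCast hK.lam_one_eq_zero]
    exact sum_mem fun i _ => mul_mem (lam_mem_of_gamma_mem S z hz i) (natCast_mem S _)
  have hT : evV x y p ∈ T := by
    refine aeval_mem_subring T (gv x y) (fun s => ?_) p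
    cases s with
    | inl j => exact hgen x (fun i => evV_inl x y i ▸ hev _) j
    | inr j => exact hgen y (fun i => evV_inr x y i ▸ hev _) j
  exact hT n

theorem gamma_mem_range (x y : K) (p : V) (n : ℕ) :
    gamma n (evV x y p) ∈ (evV x y).toRingHom.range := by
  cases n with
  | zero => rw [gamma_zero]; exact one_mem _
  | succ n => rw [gamma_succ]; exact sum_mem fun j _ => mul_mem (natCast_mem _ _) (lam_mem_range hK x y p _)

theorem adamsOp_mem_range (x y : K) (p : V) (n : ℕ) :
    adamsOp (n + 1) (evV x y p) ∈ (evV x y).toRingHom.range := by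
  induction n using Nat.strong_induction_on with
  | _ n ih =>
    set S := (evV x y).toRingHom.range
    have h := rec_split (c := fun t => LambdaOps.lam t (evV x y p)) (LambdaOps.lam_zero _) n
    rw [← adamsOp_eq] at h
    have hmem : (-1 : K) ^ n * adamsOp (n + 1) (evV x y p) ∈ S := by
      rw [h]
      refine sub_mem (mul_mem (lam_mem_range hK x y p _) (add_mem (natCast_mem S n) (one_mem S)))
        (sum_mem fun i hi => mul_mem (mul_mem (pow_mem (neg_mem (one_mem S)) i) ?_) (lam_mem_range hK x y p _))
      rw [← adamsOp_eq]; exact ih i (mem_range.1 hi)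
    have h2 := mul_mem (pow_mem (neg_mem (one_mem S)) n) hmem
    rwa [← mul_assoc, ← mul_pow, neg_one_mul, neg_neg, one_pow, one_mul] at h2

end ev

/-! ### The test families -/

/-- the three kinds of test pairs -/
inductive Kind
  | gen
  | xOnly
  | scal (m : ℕ)

/-- test pairs -/
abbrev Idx := ℕ × Kind

/-- the sum of the variables of the first family -/
def xN (N : ℕ) : W N := ∑ i : Fin N, X (Sum.inl i)

/-- the sum of the variables of the second family -/
def yN (N : ℕ) : W N := ∑ i : Fin N, X (Sum.inr i)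

/-- first component of a test pair -/
def fx : (i : Idx) → W i.1
  | (N, .gen) => xN N
  | (N, .xOnly) => xN N
  | (_, .scal m) => m

/-- second component of a test pair -/
def fy : (i : Idx) → W i.1
  | (N, .gen) => yN N
  | (_, .xOnly) => 0
  | (N, .scal _) => yN N

section rep

variable {A : Type*} [CommRing A] [LambdaOps A] (hA : IsSpecial A)

lemma projFst_lam (i : ℕ) (z : A × ((j : Idx) → W j.1)) :
    RingHom.fst A _ (LambdaOps.lam i z) = LambdaOps.lam i (RingHom.fst A _ z) := rfl

/-- the projection to a test ring -/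
def projIdx (A : Type*) [CommRing A] (j : Idx) : A × ((j : Idx) → W j.1) →+* W j.1 :=
  (Pi.evalRingHom (fun j : Idx => W j.1) j).comp (RingHom.snd A _)

lemma projIdx_lam (j : Idx) (i : ℕ) (z : A × ((j : Idx) → W j.1)) :
    projIdx A j (LambdaOps.lam i z) = LambdaOps.lam i (projIdx A j z) := rfl

include hA

theorem isSpecial_test : IsSpecial (A × ((j : Idx) → W j.1)) :=
  isSpecial_prod hA (isSpecial_pi fun _ => isSpecial_u)

theorem exists_lam_rep (x y : A) (n : ℕ) (p : V) :
    ∃ q : V, evV x y q = LambdaOps.lam n (evV x y p) ∧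
      ∀ i, evV (fx i) (fy i) q = LambdaOps.lam n (evV (fx i) (fy i) p) := by
  obtain ⟨q, hq⟩ := lam_mem_range (isSpecial_test hA) (x, fx) (y, fy) p n
  refine ⟨q, ?_, fun j => ?_⟩
  · have := congrArg (RingHom.fst A ((j : Idx) → W j.1)) hq
    rw [AlgHom.toRingHom_eq_coe, RingHom.coe_coe, map_evV _ projFst_lam, projFst_lam, map_evV _ projFst_lam] at this
    exact this
  · have := congrArg (projIdx A j) hq
    rw [AlgHom.toRingHom_eq_coe, RingHom.coe_coe, map_evV _ (projIdx_lam j), projIdx_lam j,
      map_evV _ (projIdx_lam j)] at this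
    exact this

theorem exists_gamma_rep (x y : A) (n : ℕ) (p : V) :
    ∃ q : V, evV x y q = gamma n (evV x y p) ∧
      ∀ i, evV (fx i) (fy i) q = gamma n (evV (fx i) (fy i) p) := by
  obtain ⟨q, hq⟩ := gamma_mem_range (isSpecial_test hA) (x, fx) (y, fy) p n
  refine ⟨q, ?_, fun j => ?_⟩
  · have := congrArg (RingHom.fst A ((j : Idx) → W j.1)) hq
    rw [AlgHom.toRingHom_eq_coe, RingHom.coe_coe, map_evV _ projFst_lam, map_gamma _ projFst_lam,
      map_evV _ projFst_lam] at this
    exact this
  · have := congrArg (projIdx A j) hq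
    rw [AlgHom.toRingHom_eq_coe, RingHom.coe_coe, map_evV _ (projIdx_lam j), map_gamma _ (projIdx_lam j),
      map_evV _ (projIdx_lam j)] at this
    exact this

theorem exists_adams_rep (x y : A) (n : ℕ) (p : V) :
    ∃ q : V, evV x y q = adamsOp (n + 1) (evV x y p) ∧
      ∀ i, evV (fx i) (fy i) q = adamsOp (n + 1) (evV (fx i) (fy i) p) := by
  obtain ⟨q, hq⟩ := adamsOp_mem_range (isSpecial_test hA) (x, fx) (y, fy) p n
  refine ⟨q, ?_, fun j => ?_⟩
  · have := congrArg (RingHom.fst A ((j : Idx) → W j.1)) hq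
    rw [AlgHom.toRingHom_eq_coe, RingHom.coe_coe, map_evV _ projFst_lam, map_adamsOp _ projFst_lam,
      map_evV _ projFst_lam] at this
    exact this
  · have := congrArg (projIdx A j) hq
    rw [AlgHom.toRingHom_eq_coe, RingHom.coe_coe, map_evV _ (projIdx_lam j), map_adamsOp _ (projIdx_lam j),
      map_evV _ (projIdx_lam j)] at this
    exact this

end rep

/-! ### Values on the test families -/

lemma gamma_sum_vars {σ : Type*} {N : ℕ} (f : Fin N → σ) (k : ℕ) :
    gamma k (∑ i : Fin N, X (f i) : MvPolynomial σ ℤ)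
      = ((univ : Finset (Fin N)).val.map fun i => (X (f i) : MvPolynomial σ ℤ)).esymm k := by
  have h := congrFun (gammaSeq_sum_line_sub_one (K := MvPolynomial σ ℤ) lam_one_u
    ((univ : Finset (Fin N)).val.map fun i => (X (f i) + 1 : MvPolynomial σ ℤ)) (fun u hu => by
      obtain ⟨i, _, rfl⟩ := Multiset.mem_map.1 hu
      exact lam_X_add_one (f i))) k
  rw [Multiset.map_map, Multiset.card_map,
    ← Finset.sum_eq_multiset_sum, Finset.sum_add_distrib] at h
  simp only [Function.comp_def, add_sub_cancel_right, Finset.sum_const, nsmul_eq_mul, mul_one,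
    Finset.card_val, Groth.Agent.Lead.Lam.es] at h
  exact h

/-- restriction of the variables to the first `N` of each family -/
def prj (N : ℕ) : V →ₐ[ℤ] W N :=
  aeval (Sum.elim (fun j => if h : j < N then X (Sum.inl ⟨j, h⟩) else 0)
    (fun j => if h : j < N then X (Sum.inr ⟨j, h⟩) else 0))

/-- restriction to the first `N` variables of the first family -/
def prjX (N : ℕ) : V →ₐ[ℤ] U N :=
  aeval (Sum.elim (fun j => if h : j < N then X ⟨j, h⟩ else 0) (fun _ => 0))

lemma gamma_xN (N j : ℕ) : gamma (j + 1) (xN N) =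
    rename Sum.inl (MvPolynomial.esymm (Fin N) ℤ (j + 1)) := by
  rw [xN, gamma_sum_vars, esymm_eq_multiset_esymm, map_esymm', Multiset.map_map]
  simp [Function.comp_def]

lemma gamma_yN (N j : ℕ) : gamma (j + 1) (yN N) =
    rename Sum.inr (MvPolynomial.esymm (Fin N) ℤ (j + 1)) := by
  rw [yN, gamma_sum_vars, esymm_eq_multiset_esymm, map_esymm', Multiset.map_map]
  simp [Function.comp_def]

lemma esymm_eq_zero_of_lt {N k : ℕ} (h : N < k) : MvPolynomial.esymm (Fin N) ℤ k = 0 := by
  rw [esymm, Finset.powersetCard_eq_empty.2 (by simpa using h), Finset.sum_empty]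

lemma gamma_xN_eq_zero {N j : ℕ} (h : N ≤ j) : gamma (j + 1) (xN N) = 0 := by
  rw [gamma_xN, esymm_eq_zero_of_lt (by omega), map_zero]

lemma evV_gen (N : ℕ) (q : V) : evV (xN N) (yN N) q = esW N (prj N q) := by
  suffices h : (evV (xN N) (yN N)).toRingHom = (esW N).toRingHom.comp (prj N).toRingHom from
    DFunLike.congr_fun h q
  apply MvPolynomial.ringHom_ext
  · intro r; simp
  intro s
  simp only [AlgHom.toRingHom_eq_coe, RingHom.comp_apply, RingHom.coe_coe, prj, evV, aeval_X]
  cases s with
  | inl j =>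
    simp only [gv, Sum.elim_inl, gamma_xN]
    split_ifs with h
    · simp [esW]
    · rw [map_zero, esymm_eq_zero_of_lt (by omega), map_zero]
  | inr j =>
    simp only [gv, Sum.elim_inr, gamma_yN]
    split_ifs with h
    · simp [esW]
    · rw [map_zero, esymm_eq_zero_of_lt (by omega), map_zero]

lemma evV_xOnly (N : ℕ) (q : V) : evV (xN N) 0 q = rename Sum.inl (esH N (prjX N q)) := by
  suffices h : (evV (xN N) 0).toRingHom
      = ((rename Sum.inl).toRingHom.comp (esH N).toRingHom).comp (prjX N).toRingHom from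
    DFunLike.congr_fun h q
  apply MvPolynomial.ringHom_ext
  · intro r; simp
  intro s
  simp only [AlgHom.toRingHom_eq_coe, RingHom.comp_apply, RingHom.coe_coe, prjX, evV, aeval_X]
  cases s with
  | inl j =>
    simp only [gv, Sum.elim_inl, gamma_xN]
    split_ifs with h
    · simp [esH]
    · rw [map_zero, map_zero, esymm_eq_zero_of_lt (by omega), map_zero]
  | inr j => simp [gv, gamma_zero_eq]

/-- weights of the variables -/
def wV : ℕ ⊕ ℕ → ℕ := Sum.elim (fun j => j + 1) (fun j => j + 1)

/-- weights in finitely many variables -/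
def wN (N : ℕ) : Fin N ⊕ Fin N → ℕ := fun s => wV (Sum.map Fin.val Fin.val s)

lemma weight_le_of_esW {N k : ℕ} {p : W N}
    (h : esW N p ∈ MvPolynomial.idealOfVars (Fin N ⊕ Fin N) ℤ ^ k) :
    ∀ e ∈ p.support, k ≤ Finsupp.weight (wN N) e := by
  classical
  intro e he
  by_contra hlt
  set w' : Fin N ⊕ Fin N → ℕ := fun _ => 1 with hw'
  set j := Finsupp.weight (wN N) e with hj
  have hhom : ∀ s, IsWeightedHomogeneous w'
      ((Sum.elim (fun k : Fin N => rename Sum.inl (MvPolynomial.esymm (Fin N) ℤ ((k : ℕ) + 1)))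
        (fun k : Fin N => rename Sum.inr (MvPolynomial.esymm (Fin N) ℤ ((k : ℕ) + 1)))) s) (wN N s) := by
    intro s
    cases s with
    | inl a =>
      simp only [Sum.elim_inl, esymm_eq_multiset_esymm, map_esymm', Multiset.map_map]
      simpa [wN, wV, Function.comp_def] using Groth.Agent.Lead.Lam.esymm_homog (univ : Finset (Fin N))
        (f := fun i => (X (Sum.inl i) : W N)) (w' := w') (a := 1) (fun i _ => isWeightedHomogeneous_X _ _ _)
        ((a : ℕ) + 1)
    | inr a =>
      simp only [Sum.elim_inr, esymm_eq_multiset_esymm, map_esymm', Multiset.map_map]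
      simpa [wN, wV, Function.comp_def] using Groth.Agent.Lead.Lam.esymm_homog (univ : Finset (Fin N))
        (f := fun i => (X (Sum.inr i) : W N)) (w' := w') (a := 1) (fun i _ => isWeightedHomogeneous_X _ _ _)
        ((a : ℕ) + 1)
  have key : esW N (weightedHomogeneousComponent (wN N) j p)
      = weightedHomogeneousComponent w' j (esW N p) := by
    conv_rhs => rw [p.as_sum, map_sum, map_sum]
    rw [weightedHomogeneousComponent_apply, map_sum, Finset.sum_filter]
    refine sum_congr rfl fun d _ => ?_
    have hd := Groth.Agent.Lead.Lam.isWeightedHomogeneous_aeval (w' := w') hhom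
      (isWeightedHomogeneous_monomial (wN N) d (coeff d p) rfl)
    split_ifs with hdj
    · rw [hdj] at hd
      exact hd.weightedHomogeneousComponent_same.symm
    · exact (hd.weightedHomogeneousComponent_ne _ (Ne.symm hdj)).symm
  have h0 : weightedHomogeneousComponent w' j (esW N p) = 0 := by
    ext d
    rw [coeff_weightedHomogeneousComponent, coeff_zero]
    split_ifs with hd
    · refine (MvPolynomial.mem_pow_idealOfVars_iff' k _).1 h d ?_
      have hd' : (Finsupp.weight fun _ : Fin N ⊕ Fin N => (1 : ℕ)) d = j := hd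
      rw [Finsupp.degree_eq_weight_one]
      omega
    · rfl
  rw [h0, ← map_zero (esW N)] at key
  have := congrArg (coeff e) (esW_injective N key)
  rw [coeff_weightedHomogeneousComponent, if_pos hj.symm, coeff_zero] at this
  exact (mem_support_iff.1 he) this

lemma weight_mapDomain {α β : Type*} (f : α → β) (w : β → ℕ) (e : α →₀ ℕ) :
    Finsupp.weight w (e.mapDomain f) = Finsupp.weight (w ∘ f) e := by
  rw [Finsupp.weight_apply, Finsupp.weight_apply, Finsupp.sum_mapDomain_index] <;> simp [add_mul]

lemma exists_bound (e : ℕ ⊕ ℕ →₀ ℕ) :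
    ∃ N, e.support ⊆ (range N).disjSum (range N) := by
  refine ⟨e.support.sup wV, fun s hs => ?_⟩
  have := Finset.le_sup (f := wV) hs
  cases s <;> simp [wV] at this ⊢ <;> omega

/-- generic test pairs detect the weights -/
theorem weights_gen {q : V} {k : ℕ}
    (h : ∀ N, evV (xN N) (yN N) q ∈ MvPolynomial.idealOfVars (Fin N ⊕ Fin N) ℤ ^ k) :
    ∀ e ∈ q.support, k ≤ Finsupp.weight wV e := by
  classical
  intro e he
  obtain ⟨N, hN⟩ := exists_bound e
  have hw := h N
  rw [evV_gen] at hw
  have hk : rename (Sum.map Fin.val Fin.val) (prj N q) = killOut ((range N).disjSum (range N)) q := by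
    rw [← AlgHom.comp_apply]
    congr 1
    apply MvPolynomial.algHom_ext
    intro s
    cases s <;> simp [prj, killOut] <;> split_ifs <;> simp
  have hc : coeff e (rename (Sum.map Fin.val Fin.val) (prj N q)) ≠ 0 := by
    rw [hk, coeff_killOut _ _ hN]; exact mem_support_iff.1 he
  obtain ⟨u, rfl, hu⟩ := coeff_rename_ne_zero _ _ _ hc
  rw [weight_mapDomain]
  exact weight_le_of_esW hw u (mem_support_iff.2 hu)

/-- vanishing on the test pair `(x_N, 0)` kills the monomials in the first `N` variables of `x` -/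
theorem support_xOnly {q : V} {N : ℕ} (h : evV (xN N) 0 q = 0) :
    ∀ e ∈ q.support, ∃ s ∈ e.support, ∀ j, s = Sum.inl j → N ≤ j := by
  classical
  intro e he
  by_contra hcon
  push Not at hcon
  rw [evV_xOnly, map_eq_zero_iff _ (rename_injective _ Sum.inl_injective)] at h
  have h0 : prjX N q = 0 := esH_injective N (h.trans (map_zero _).symm)
  have hsub : e.support ⊆ (range N).map ⟨Sum.inl, Sum.inl_injective⟩ := by
    intro s hs
    obtain ⟨j, rfl, hj⟩ := hcon s hs
    simpa using hj
  have hk : rename (fun i : Fin N => (Sum.inl (i : ℕ) : ℕ ⊕ ℕ)) (prjX N q)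
      = killOut ((range N).map ⟨Sum.inl, Sum.inl_injective⟩) q := by
    rw [← AlgHom.comp_apply]
    congr 1
    apply MvPolynomial.algHom_ext
    intro s
    cases s <;> simp [prjX, killOut]
    split_ifs <;> simp
  have := congrArg (coeff e) hk
  rw [h0, map_zero, coeff_zero, coeff_killOut _ _ hsub] at this
  exact (mem_support_iff.1 he) this.symm

/-- separation of the two families -/
def sep : V →ₐ[ℤ] MvPolynomial ℕ (MvPolynomial ℕ ℤ) :=
  aeval (Sum.elim (fun j => C (X j)) X)

lemma evV_eq_sep {A : Type*} [CommRing A] [LambdaOps A] (x y : A) (q : V) :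
    evV x y q = eval₂ (aeval (R := ℤ) fun j => gamma (j + 1) x).toRingHom (fun j => gamma (j + 1) y) (sep q) := by
  suffices h : (evV x y).toRingHom
      = (eval₂Hom (aeval (R := ℤ) fun j => gamma (j + 1) x).toRingHom (fun j => gamma (j + 1) y)).comp
        sep.toRingHom from DFunLike.congr_fun h q
  apply MvPolynomial.ringHom_ext
  · intro r; simp
  · intro s; cases s <;> simp [evV, sep, gv]

/-- `γ^{j+1}` of a natural number -/
def natGamma (m j : ℕ) : ℤ := ((m + j).choose (j + 1) : ℕ)

lemma gamma_natCast_eq {A : Type*} [CommRing A] [LambdaOps A]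
    (h1 : ∀ k, 2 ≤ k → LambdaOps.lam k (1 : A) = 0) (m j : ℕ) :
    gamma (j + 1) (m : A) = (natGamma m j : A) := by
  rw [gamma_eq_lam h1, ← Nat.cast_add, lam_natCast h1, natGamma, Int.cast_natCast]

/-- scalar test pairs detect vanishing at natural numbers -/
theorem coeff_scal {q : V} {k : ℕ}
    (h : ∀ (N m : ℕ), evV (m : W N) (yN N) q ∈ MvPolynomial.idealOfVars (Fin N ⊕ Fin N) ℤ ^ k)
    (e : ℕ →₀ ℕ) (he : Finsupp.weight (fun j => j + 1) e < k) (m : ℕ) :
    aeval (natGamma m) (coeff e (sep q)) = 0 := by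
  classical
  set q' : V := rename Sum.inr (MvPolynomial.map (aeval (R := ℤ) (natGamma m)).toRingHom (sep q)) with hq'
  have hev : ∀ N, evV (xN N) (yN N) q' = evV (m : W N) (yN N) q := by
    intro N
    rw [evV_eq_sep (m : W N), hq', evV, aeval_rename, aeval_def, eval₂_map]
    congr 1
    apply MvPolynomial.ringHom_ext
    · intro r; simp
    · intro j; simp [gamma_natCast_eq lam_one_u]
  have hw := weights_gen (q := q') (k := k) fun N => (hev N).symm ▸ h N m
  by_contra hne
  have hmem : e.mapDomain Sum.inr ∈ q'.support := by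
    rw [mem_support_iff, hq', coeff_rename_mapDomain _ Sum.inr_injective, coeff_map]
    exact hne
  have h2 := hw _ hmem
  rw [weight_mapDomain, show wV ∘ Sum.inr = fun j => j + 1 from rfl] at h2
  omega

/-! ### Evaluation into a multiplicative family -/

section mem

variable {A R τ : Type*} [CommRing A] [CommRing R] (F : GFil A) (φ : R →+* A) (f : τ → A) (w : τ → ℕ)

theorem eval₂_mem {q : MvPolynomial τ R} {k : ℕ} (hq : ∀ e ∈ q.support, k ≤ Finsupp.weight w e)
    (hf : ∀ s, f s ∈ F.G (w s)) : eval₂ φ f q ∈ F.G k := by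
  rw [eval₂_eq]
  refine Submodule.sum_mem _ fun e he => Ideal.mul_mem_left _ _ (F.anti (hq e he) ?_)
  have := F.prod_mem e.support (fun s => f s ^ e s) (fun s => e s * w s) fun s _ => F.pow_mem (hf s) _
  simpa [Finsupp.weight_apply, Finsupp.sum] using this

theorem eval₂_mem_mul {q : MvPolynomial τ R} {k d : ℕ} {g : A}
    (hq : ∀ e ∈ q.support, k ≤ Finsupp.weight w e) (hf : ∀ s, f s ∈ F.G (w s))
    (hs : ∀ e ∈ q.support, ∃ s ∈ e.support, f s ∈ Ideal.span {g} * F.G (w s - d)) :
    eval₂ φ f q ∈ Ideal.span {g} * F.G (k - d) := by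
  classical
  rw [eval₂_eq]
  refine Submodule.sum_mem _ fun e he => Ideal.mul_mem_left _ _ ?_
  obtain ⟨s, hse, hfs⟩ := hs e he
  obtain ⟨z, hz, hgz⟩ := Ideal.mem_span_singleton_mul.1 hfs
  have hpos : 0 < e s := Nat.pos_of_ne_zero (Finsupp.mem_support_iff.1 hse)
  have hrest := F.prod_mem (e.support.erase s) (fun t => f t ^ e t) (fun t => e t * w t)
    fun t _ => F.pow_mem (hf t) _
  have hmem := F.mul_mem hz (F.mul_mem (F.pow_mem (hf s) (e s - 1)) hrest)
  refine Ideal.mem_span_singleton_mul.2 ⟨_, F.anti ?_ hmem, ?_⟩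
  · have hle := hq e he
    rw [Finsupp.weight_apply, Finsupp.sum, ← Finset.add_sum_erase _ _ hse] at hle
    simp only [smul_eq_mul] at hle
    have hsplit : e s * w s = (e s - 1) * w s + w s := by
      rw [← Nat.succ_mul, Nat.succ_eq_add_one, Nat.sub_add_cancel hpos]
    omega
  · rw [← Finset.mul_prod_erase _ _ hse, ← mul_assoc, hgz, ← mul_assoc, ← pow_succ',
      Nat.sub_add_cancel hpos]

end mem

end

end Groth.Agent.LamG
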