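import Groth.Agent.Lead.LamOps
import Groth.Agent.LamG.Fil
import Mathlib.RingTheory.MvPolynomial.Ideal

/-! The λ-ring on a polynomial ring over ℤ whose variables plus one are line elements. -/

namespace Groth.Agent.LamG

open Finset LambdaRing MvPolynomial
open Groth.Agent.Lead.Lam (nw nw_single nw_congr rec_eq adamsOp_eq adamsOp_add isSpecial_of_adams)

section general

variable {K : Type*} [CommRing K] [LambdaOps K]

lemma adamsOp_line {u : K} (hu : ∀ j, 2 ≤ j → LambdaOps.lam j u = 0) (k : ℕ) :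
    adamsOp (k + 1) u = u ^ (k + 1) := by
  rw [adamsOp_eq, lamSeq_line hu, nw_single]

/-- ψ^(k+1) as an additive map -/
noncomputable def adamsAddHom (k : ℕ) : K →+ K := AddMonoidHom.mk' _ (adamsOp_add k)

@[simp] lemma adamsAddHom_apply (k : ℕ) (x : K) : adamsAddHom k x = adamsOp (k + 1) x := rfl

lemma adamsOp_zero_arg (k : ℕ) : adamsOp (k + 1) (0 : K) = 0 := (adamsAddHom (K := K) k).map_zero

lemma adamsOp_neg (k : ℕ) (x : K) : adamsOp (k + 1) (-x) = -adamsOp (k + 1) x :=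
  (adamsAddHom (K := K) k).map_neg x

lemma adamsOp_sub (k : ℕ) (x y : K) : adamsOp (k + 1) (x - y) = adamsOp (k + 1) x - adamsOp (k + 1) y :=
  (adamsAddHom (K := K) k).map_sub x y

end general

noncomputable section

variable {σ : Type*}

local notation "𝕌" => MvPolynomial σ ℤ

/-- the unit `1 + a t` -/
def lineUnit (a : 𝕌) : (PowerSeries 𝕌)ˣ :=
  (PowerSeries.isUnit_iff_constantCoeff.2 (show IsUnit (PowerSeries.constantCoeff
    (1 + PowerSeries.C a * PowerSeries.X)) by simp)).unit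

lemma lineUnit_val (a : 𝕌) : (lineUnit a : PowerSeries 𝕌) = 1 + PowerSeries.C a * PowerSeries.X :=
  IsUnit.unit_spec _

/-- the automorphism `X ↦ X + 1` -/
def shift : MvPolynomial σ ℤ ≃ₐ[ℤ] MvPolynomial σ ℤ :=
  AlgEquiv.ofAlgHom (aeval fun i => X i + 1) (aeval fun i => X i - 1)
    (algHom_ext fun i => by simp) (algHom_ext fun i => by simp)

lemma shift_X (i : σ) : shift (X i : 𝕌) = X i + 1 := by simp [shift]

/-- the line element with exponent `d` -/
def bLine (d : σ →₀ ℕ) : 𝕌 := shift (monomial d 1)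

lemma bLine_zero : bLine (0 : σ →₀ ℕ) = 1 := by
  rw [bLine, monomial_zero', C_1, map_one]

lemma bLine_add (d e : σ →₀ ℕ) : bLine (d + e) = bLine d * bLine e := by
  rw [bLine, bLine, bLine, ← map_mul, monomial_mul, one_mul]

lemma bLine_pow (d : σ →₀ ℕ) (k : ℕ) : bLine d ^ k = bLine (k • d) := by
  rw [bLine, bLine, ← map_pow, monomial_pow, one_pow]

lemma bLine_single (i : σ) : bLine (Finsupp.single i 1) = X i + 1 := by
  rw [bLine, ← X, shift_X]

/-- induction over the basis of line elements -/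
lemma induction_lines {P : 𝕌 → Prop} (h0 : P 0) (hadd : ∀ x y, P x → P y → P (x + y))
    (hneg : ∀ x, P x → P (-x)) (hline : ∀ d, P (bLine d)) (x : 𝕌) : P x := by
  obtain ⟨p, rfl⟩ := (shift (σ := σ)).surjective x
  induction p using MvPolynomial.induction_on' with
  | add p q hp hq => rw [map_add]; exact hadd _ _ hp hq
  | monomial d a =>
    induction a using Int.induction_on with
    | zero => simpa using h0
    | succ n ih => rw [map_add, map_add]; exact hadd _ _ ih (hline d)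
    | pred n ih =>
      rw [map_sub, map_sub, sub_eq_add_neg]
      exact hadd _ _ ih (hneg _ (hline d))

/-- the total λ-operation -/
def lamTot : 𝕌 →ₗ[ℤ] Additive (PowerSeries 𝕌)ˣ :=
  ((MvPolynomial.basisMonomials σ ℤ).map (shift (σ := σ)).toLinearEquiv).constr ℤ
    fun d => Additive.ofMul (lineUnit (bLine d))

lemma lamTot_bLine (d : σ →₀ ℕ) : lamTot (bLine d) = Additive.ofMul (lineUnit (bLine d)) := by
  have h := ((MvPolynomial.basisMonomials σ ℤ).map (shift (σ := σ)).toLinearEquiv).constr_basis ℤ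
    (fun d => Additive.ofMul (lineUnit (bLine d))) d
  simpa [lamTot, bLine] using h

/-- λ_t of the universal ring -/
def uSeries (x : 𝕌) : PowerSeries 𝕌 := ((Additive.toMul (lamTot x) : (PowerSeries 𝕌)ˣ) : PowerSeries 𝕌)

lemma uSeries_add (x y : 𝕌) : uSeries (x + y) = uSeries x * uSeries y := by
  simp [uSeries]

lemma uSeries_zero : uSeries (0 : 𝕌) = 1 := by simp [uSeries]

lemma uSeries_bLine (d : σ →₀ ℕ) :
    uSeries (bLine d) = 1 + PowerSeries.C (bLine d) * PowerSeries.X := by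
  rw [uSeries, lamTot_bLine]; exact lineUnit_val _

lemma uSeries_coeff01 (x : 𝕌) :
    PowerSeries.coeff 0 (uSeries x) = 1 ∧ PowerSeries.coeff 1 (uSeries x) = x := by
  induction x using induction_lines with
  | h0 => simp [uSeries_zero]
  | hadd x y hx hy =>
    rw [uSeries_add]
    simp [PowerSeries.coeff_mul, Nat.sum_antidiagonal_eq_sum_range_succ_mk, sum_range_succ, hx.1, hx.2, hy.1, hy.2,
      -PowerSeries.coeff_zero_eq_constantCoeff]
    ring
  | hneg x hx =>
    have h := uSeries_add x (-x)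
    rw [add_neg_cancel, uSeries_zero] at h
    have e0 := congrArg (PowerSeries.coeff 0) h
    have e1 := congrArg (PowerSeries.coeff 1) h
    simp [PowerSeries.coeff_mul, Nat.sum_antidiagonal_eq_sum_range_succ_mk, sum_range_succ, hx.1, hx.2,
      -PowerSeries.coeff_zero_eq_constantCoeff] at e0 e1
    rw [← e0, mul_one] at e1
    exact ⟨e0.symm, by linear_combination -e1⟩
  | hline d => simp [uSeries_bLine, PowerSeries.coeff_one]

/-- the λ-structure for which the `X i + 1` are line elements -/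
instance uLam : LambdaOps 𝕌 where
  lam k x := PowerSeries.coeff k (uSeries x)
  lam_zero x := (uSeries_coeff01 x).1
  lam_one x := (uSeries_coeff01 x).2
  lam_add k x y := by
    rw [uSeries_add, PowerSeries.coeff_mul, Nat.sum_antidiagonal_eq_sum_range_succ_mk]

lemma lam_bLine (d : σ →₀ ℕ) (j : ℕ) (hj : 2 ≤ j) : LambdaOps.lam j (bLine d) = 0 := by
  change PowerSeries.coeff j (uSeries (bLine d)) = 0
  obtain ⟨i, rfl⟩ := Nat.exists_eq_add_of_le' hj
  simp [uSeries_bLine, PowerSeries.coeff_one]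

lemma lam_one_u (j : ℕ) (hj : 2 ≤ j) : LambdaOps.lam j (1 : 𝕌) = 0 := by
  rw [← bLine_zero]; exact lam_bLine 0 j hj

lemma lam_X_add_one (i : σ) (j : ℕ) (hj : 2 ≤ j) : LambdaOps.lam j (X i + 1 : 𝕌) = 0 := by
  rw [← bLine_single]; exact lam_bLine _ j hj

lemma adamsOp_bLine (k : ℕ) (d : σ →₀ ℕ) : adamsOp (k + 1) (bLine d) = bLine ((k + 1) • d) := by
  rw [adamsOp_line (lam_bLine d), bLine_pow]

lemma adamsOp_u_one (k : ℕ) : adamsOp (k + 1) (1 : 𝕌) = 1 := by
  rw [← bLine_zero, adamsOp_bLine, smul_zero]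

lemma adamsOp_u_mul (k : ℕ) (x y : 𝕌) :
    adamsOp (k + 1) (x * y) = adamsOp (k + 1) x * adamsOp (k + 1) y := by
  induction x using induction_lines with
  | h0 => simp [adamsOp_zero_arg]
  | hadd a b ha hb => rw [add_mul, adamsOp_add, ha, hb, adamsOp_add, add_mul]
  | hneg a ha => rw [neg_mul, adamsOp_neg, ha, adamsOp_neg, neg_mul]
  | hline d =>
    induction y using induction_lines with
    | h0 => simp [adamsOp_zero_arg]
    | hadd a b ha hb => rw [mul_add, adamsOp_add, ha, hb, adamsOp_add, mul_add]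
    | hneg a ha => rw [mul_neg, adamsOp_neg, ha, adamsOp_neg, mul_neg]
    | hline e => rw [← bLine_add, adamsOp_bLine, adamsOp_bLine, adamsOp_bLine, smul_add, bLine_add]

/-- ψ^(k+1) on the universal ring -/
def uAdams (k : ℕ) : 𝕌 →+* 𝕌 where
  toFun := adamsOp (k + 1)
  map_one' := adamsOp_u_one k
  map_mul' := adamsOp_u_mul k
  map_zero' := adamsOp_zero_arg k
  map_add' := adamsOp_add k

lemma uAdams_apply (k : ℕ) (x : 𝕌) : uAdams k x = adamsOp (k + 1) x := rfl

lemma uAdams_X (k : ℕ) (i : σ) : uAdams k (X i : 𝕌) = (X i + 1) ^ (k + 1) - 1 := by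
  have h : uAdams k (X i + 1 : 𝕌) = (X i + 1) ^ (k + 1) := adamsOp_line (lam_X_add_one i) k
  rw [map_add, map_one] at h
  exact eq_sub_of_add_eq h

lemma isSpecial_u : IsSpecial 𝕌 := by
  refine isSpecial_of_adams adamsOp_u_one adamsOp_u_mul fun k k' x => ?_
  induction x using induction_lines with
  | h0 =>
    obtain ⟨m, hm⟩ := Nat.exists_eq_add_of_le' (Nat.mul_pos k.succ_pos k'.succ_pos)
    rw [hm, adamsOp_zero_arg, adamsOp_zero_arg, adamsOp_zero_arg]
  | hadd a b ha hb =>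
    obtain ⟨m, hm⟩ := Nat.exists_eq_add_of_le' (Nat.mul_pos k.succ_pos k'.succ_pos)
    rw [adamsOp_add, adamsOp_add, ha, hb, hm, adamsOp_add]
  | hneg a ha =>
    obtain ⟨m, hm⟩ := Nat.exists_eq_add_of_le' (Nat.mul_pos k.succ_pos k'.succ_pos)
    rw [adamsOp_neg, adamsOp_neg, ha, hm, adamsOp_neg]
  | hline d =>
    obtain ⟨m, hm⟩ := Nat.exists_eq_add_of_le' (Nat.mul_pos k.succ_pos k'.succ_pos)
    rw [adamsOp_bLine, adamsOp_bLine, hm, adamsOp_bLine, ← hm, smul_smul]

/-! ### Powers of the ideal of the variables -/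

local notation "𝔪" => MvPolynomial.idealOfVars σ ℤ

lemma constantCoeff_bLine (d : σ →₀ ℕ) : constantCoeff (bLine d) = 1 := by
  have h : (constantCoeff (σ := σ) (R := ℤ)).comp (shift (σ := σ)).toAlgHom.toRingHom
      = eval₂Hom (RingHom.id ℤ) fun _ => 1 :=
    MvPolynomial.ringHom_ext (fun r => by simp) (fun i => by simp [shift_X])
  have h2 := DFunLike.congr_fun h (monomial d 1)
  rw [show eval₂Hom (RingHom.id ℤ) (fun _ => 1) (monomial d (1 : ℤ)) = 1 by simp [eval₂_monomial]] at h2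
  exact h2

lemma mem_m_iff {x : 𝕌} : x ∈ 𝔪 ↔ constantCoeff x = 0 := by
  rw [← pow_one 𝔪, MvPolynomial.mem_pow_idealOfVars_iff', constantCoeff_eq]
  simp [Finsupp.degree_eq_zero_iff]

lemma sub_C_mem_m (x : 𝕌) : x - C (constantCoeff x) ∈ 𝔪 := by
  rw [mem_m_iff]; simp

lemma constantCoeff_adamsOp (k : ℕ) (x : 𝕌) :
    constantCoeff (adamsOp (k + 1) x) = constantCoeff x := by
  induction x using induction_lines with
  | h0 => simp [adamsOp_zero_arg]
  | hadd a b ha hb => rw [adamsOp_add, map_add, map_add, ha, hb]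
  | hneg a ha => rw [adamsOp_neg, map_neg, map_neg, ha]
  | hline d => rw [adamsOp_bLine, constantCoeff_bLine, constantCoeff_bLine]

/-- the family of powers of the ideal of the variables -/
def mFil (σ : Type*) : GFil (MvPolynomial σ ℤ) := GFil.pow (MvPolynomial.idealOfVars σ ℤ)

lemma good_m {z : 𝕌} (hz : z ∈ 𝔪) : (mFil σ).Good z := by
  suffices h : ∀ z : 𝕌, (mFil σ).Good (z - C (constantCoeff z)) by
    simpa [mem_m_iff.1 hz] using h z
  intro z
  induction z using induction_lines with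
  | h0 => simpa using GFil.good_zero
  | hadd a b ha hb =>
    have := ha.add hb
    rwa [show a - C (constantCoeff a) + (b - C (constantCoeff b)) = a + b - C (constantCoeff (a + b)) by
      rw [map_add, map_add]; ring] at this
  | hneg a ha =>
    have := ha.neg
    rwa [show -(a - C (constantCoeff a)) = -a - C (constantCoeff (-a)) by
      rw [map_neg, map_neg]; ring] at this
  | hline d =>
    intro i
    have h := congrFun (gammaSeq_line_sub_one lam_one_u (lam_bLine d)) i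
    rw [constantCoeff_bLine, C_1, h]
    rcases i with _ | _ | i
    · exact (mFil σ).mem_zero _
    · have e : bLine d - 1 ∈ 𝔪 := by rw [mem_m_iff]; simp [constantCoeff_bLine]
      simpa [mFil, GFil.pow, Groth.Agent.Lead.Lam.single] using e
    · simp [Groth.Agent.Lead.Lam.single]

lemma gamma_mem_m {z : 𝕌} (hz : z ∈ 𝔪) (i : ℕ) : gamma i z ∈ 𝔪 ^ i := good_m hz i

lemma saturated {k c : ℕ} (hc : c ≠ 0) {z : 𝕌} (h : z * (c : 𝕌) ∈ 𝔪 ^ k) : z ∈ 𝔪 ^ k := by
  rw [MvPolynomial.mem_pow_idealOfVars_iff'] at h ⊢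
  intro d hd
  have := h d hd
  rw [← map_natCast (C : ℤ →+* 𝕌) c, mul_comm, MvPolynomial.coeff_C_mul] at this
  exact (mul_eq_zero.1 this).resolve_left (by exact_mod_cast hc)

lemma X_add_one_pow_sub (i : σ) (n : ℕ) :
    ((X i + 1) ^ n - 1 - (n : 𝕌) * X i : 𝕌) ∈ 𝔪 ^ 2 := by
  induction n with
  | zero => simp
  | succ n ih =>
    have hX : (X i : 𝕌) * X i ∈ 𝔪 ^ 2 := by
      rw [pow_two]; exact Ideal.mul_mem_mul (Ideal.subset_span ⟨i, rfl⟩) (Ideal.subset_span ⟨i, rfl⟩)
    have := add_mem (Ideal.mul_mem_right (X i + 1) _ ih) (Ideal.mul_mem_left _ (n : 𝕌) hX)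
    rwa [show ((X i + 1) ^ n - 1 - (n : 𝕌) * X i) * (X i + 1) + (n : 𝕌) * (X i * X i)
      = (X i + 1) ^ (n + 1) - 1 - ((n + 1 : ℕ) : 𝕌) * X i by push_cast; ring] at this

/-- ψ^(k+1) is multiplication by `(k+1)^p` on the `p`-th graded piece -/
theorem adamsOp_sub_pow_mul_mem (k p : ℕ) : ∀ z : 𝕌, z ∈ 𝔪 ^ p →
    adamsOp (k + 1) z - ((k + 1 : ℕ) : 𝕌) ^ p * z ∈ 𝔪 ^ (p + 1) := by
  have h0 : ∀ z : 𝕌, adamsOp (k + 1) z - z ∈ 𝔪 := fun z => by
    rw [mem_m_iff, map_sub, constantCoeff_adamsOp, sub_self]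
  have h1 : ∀ z : 𝕌, z ∈ 𝔪 → adamsOp (k + 1) z - ((k + 1 : ℕ) : 𝕌) * z ∈ 𝔪 ^ 2 := by
    intro z hz
    induction hz using Submodule.span_induction with
    | mem x hx =>
      obtain ⟨i, rfl⟩ := hx
      rw [← uAdams_apply, uAdams_X]
      exact X_add_one_pow_sub i (k + 1)
    | zero => simp [adamsOp_zero_arg]
    | add a b _ _ ha hb =>
      have := add_mem ha hb
      rwa [show adamsOp (k + 1) a - ((k + 1 : ℕ) : 𝕌) * a + (adamsOp (k + 1) b - ((k + 1 : ℕ) : 𝕌) * b)
        = adamsOp (k + 1) (a + b) - ((k + 1 : ℕ) : 𝕌) * (a + b) by rw [adamsOp_add]; ring] at this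
    | smul c b hb' hb =>
      have hψb : adamsOp (k + 1) b ∈ 𝔪 := by
        rw [mem_m_iff, constantCoeff_adamsOp, ← mem_m_iff]; exact hb'
      rw [smul_eq_mul, adamsOp_u_mul,
        show adamsOp (k + 1) c * adamsOp (k + 1) b - ((k + 1 : ℕ) : 𝕌) * (c * b)
          = (adamsOp (k + 1) c - c) * adamsOp (k + 1) b
            + c * (adamsOp (k + 1) b - ((k + 1 : ℕ) : 𝕌) * b) by ring]
      refine add_mem ?_ (Ideal.mul_mem_left _ _ hb)
      rw [pow_two]
      exact Ideal.mul_mem_mul (h0 c) hψb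
  induction p with
  | zero => intro z _; simpa using h0 z
  | succ p ih =>
    intro z hz
    rw [pow_succ] at hz
    induction hz using Submodule.mul_induction_on' with
    | mem_mul_mem a ha b hb =>
      have hψb : adamsOp (k + 1) b ∈ 𝔪 := by
        rw [mem_m_iff, constantCoeff_adamsOp, ← mem_m_iff]; exact hb
      rw [adamsOp_u_mul,
        show adamsOp (k + 1) a * adamsOp (k + 1) b - ((k + 1 : ℕ) : 𝕌) ^ (p + 1) * (a * b)
          = (adamsOp (k + 1) a - ((k + 1 : ℕ) : 𝕌) ^ p * a) * adamsOp (k + 1) b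
            + ((k + 1 : ℕ) : 𝕌) ^ p * (a * (adamsOp (k + 1) b - ((k + 1 : ℕ) : 𝕌) * b)) by ring]
      refine add_mem ?_ (Ideal.mul_mem_left _ _ ?_)
      · rw [pow_succ]; exact Ideal.mul_mem_mul (ih a ha) hψb
      · rw [show p + 1 + 1 = p + 2 by omega, pow_add]; exact Ideal.mul_mem_mul ha (h1 b hb)
    | add a _ b _ ha hb =>
      rw [adamsOp_add, mul_add,
        show adamsOp (k + 1) a + adamsOp (k + 1) b
            - (((k + 1 : ℕ) : 𝕌) ^ (p + 1) * a + ((k + 1 : ℕ) : 𝕌) ^ (p + 1) * b)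
          = (adamsOp (k + 1) a - ((k + 1 : ℕ) : 𝕌) ^ (p + 1) * a)
            + (adamsOp (k + 1) b - ((k + 1 : ℕ) : 𝕌) ^ (p + 1) * b) by ring]
      exact add_mem ha hb

lemma adamsOp_mem_pow {p : ℕ} {z : 𝕌} (hz : z ∈ 𝔪 ^ p) (k : ℕ) : adamsOp (k + 1) z ∈ 𝔪 ^ p := by
  have := add_mem (Ideal.pow_le_pow_right (Nat.le_succ p) (adamsOp_sub_pow_mul_mem k p z hz))
    (Ideal.mul_mem_left _ (((k + 1 : ℕ) : 𝕌) ^ p) hz)
  simpa using this

/-- every power of the ideal of the variables is a λ-ideal -/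
lemma lam_mem_pow {p : ℕ} {z : 𝕌} (hz : z ∈ 𝔪 ^ p) (n : ℕ) : LambdaOps.lam (n + 1) z ∈ 𝔪 ^ p := by
  apply saturated (c := n + 1) (by omega)
  have h := rec_eq (c := fun t => LambdaOps.lam t z) (LambdaOps.lam_zero z) n
  push_cast
  rw [h]
  refine Submodule.sum_mem _ fun i _ => Ideal.mul_mem_right _ _ (Ideal.mul_mem_left _ _ ?_)
  rw [← adamsOp_eq]; exact adamsOp_mem_pow hz i

/-- the effect of λ^n on the `p`-th graded piece, `p ≥ 1` -/
theorem lam_sub_mem {p : ℕ} (hp : 1 ≤ p) {z : 𝕌} (hz : z ∈ 𝔪 ^ p) (n : ℕ) :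
    LambdaOps.lam (n + 1) z - (-1) ^ n * ((n + 1 : ℕ) : 𝕌) ^ (p - 1) * z ∈ 𝔪 ^ (p + 1) := by
  apply saturated (c := n + 1) (by omega)
  have h := rec_eq (c := fun t => LambdaOps.lam t z) (LambdaOps.lam_zero z) n
  rw [sum_range_succ, Nat.sub_self, LambdaOps.lam_zero, mul_one, ← adamsOp_eq] at h
  obtain ⟨q, rfl⟩ := Nat.exists_eq_add_of_le' hp
  have key := adamsOp_sub_pow_mul_mem n (q + 1) z hz
  have hsum : ∑ i ∈ range n, (-1 : 𝕌) ^ i * nw (fun t => LambdaOps.lam t z) i * LambdaOps.lam (n - i) z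
      ∈ 𝔪 ^ (q + 1 + 1) := by
    refine Submodule.sum_mem _ fun i hi => ?_
    obtain ⟨j, hj⟩ := Nat.exists_eq_add_of_le' (Nat.sub_pos_of_lt (mem_range.1 hi))
    rw [hj, mul_assoc, ← adamsOp_eq]
    refine Ideal.mul_mem_left _ _ (Ideal.pow_le_pow_right (m := q + 1 + 1) (n := (q + 1) + (q + 1)) (by omega) ?_)
    rw [pow_add]
    exact Ideal.mul_mem_mul (adamsOp_mem_pow hz i) (lam_mem_pow hz j)
  have := add_mem hsum (Ideal.mul_mem_left _ ((-1 : 𝕌) ^ n) key)
  convert this using 1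
  simp only [Nat.add_sub_cancel]
  push_cast at h ⊢
  linear_combination h

end

end Groth.Agent.LamG
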